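import Cfsg.Agent.Lib.J4Type.NV.Graph
import Cfsg.Agent.Lib.J4Type.Eight.Data
import Cfsg.Agent.Lib.Golay.Gen

/-!
A group of 168 permutations of the points in `M₂₄` preserving eight vectors and faithful on them.
-/

set_option autoImplicit false
set_option maxRecDepth 100000

namespace CfsgLib.J4Type.Eight

open Cfsg CfsgLib.Golay NV

/-- The coordinates in `V` of the eight elements. -/
def aCodes : List ℕ := [0, 5, 10, 15, 64, 69, 74, 79]

/-- The image of a vector given by four points under an encoded permutation. -/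
def quadImg (g : ℕ) (q : ℕ × ℕ × ℕ × ℕ) : ℕ :=
  (wv (img g q.1) ^^^ wv (img g q.2.1)) ^^^ (wv (img g q.2.2.1) ^^^ wv (img g q.2.2.2))

/-- An entry of the table. -/
def permAt (i : ℕ) : ℕ := permTab.getD i idCode

/-- One of the two generators. -/
def genAt (j : ℕ) : ℕ := if j = 0 then permA else permB

theorem perm_gen : inM24 permA = true ∧ inM24 permB = true ∧ Nat.beq (permAt 0) idCode = true ∧
    quadTab.map (quadImg idCode) = [5, 10, 64] := by
  decide +kernel

theorem perm_mem : ((List.range 168).all fun i => inM24 (permAt i) &&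
    (quadTab.all fun q => aCodes.elem (quadImg (permAt i) q))) = true := by
  decide +kernel

theorem perm_tree : ((List.range 168).all fun i => Nat.beq i 0 ||
    (Nat.blt (permPar.getD i (0, 0)).2 i && Nat.blt (permPar.getD i (0, 0)).1 2 &&
      isProd (genAt (permPar.getD i (0, 0)).1) (permAt (permPar.getD i (0, 0)).2) (permAt i))) = true := by
  decide +kernel

theorem perm_step : ((List.range 168).all fun i => (List.range 2).all fun j =>
    Nat.blt ((permStep.getD j []).getD i 200) 168 &&
      isProd (genAt j) (permAt i) (permAt ((permStep.getD j []).getD i 200))) = true := by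
  decide +kernel

/-- The images of the three vectors in one number. -/
def tripleOf (g : ℕ) : ℕ := (quadTab.map (quadImg g)).foldr (fun x r => x + 2048 * r) 0

theorem perm_sep : ((List.range 168).all fun i => (List.range i).all fun k =>
    !Nat.beq (tripleOf (permAt i)) (tripleOf (permAt k))) = true := by
  decide +kernel

theorem perm_transitive : (aCodes.all fun n => Nat.beq n 0 ||
    (List.range 168).any fun i => Nat.beq (quadImg (permAt i) (0, 1, 2, 10)) n) = true := by
  decide +kernel

theorem blt_lt' {a b : ℕ} (h : Nat.blt a b = true) : a < b := Nat.le_of_ble_eq_true h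

theorem genAt_valid (j : ℕ) : valid (genAt j) = true := by
  unfold genAt
  split
  · exact inM24_valid perm_gen.1
  · exact inM24_valid perm_gen.2.1

theorem permAt_mem {i : ℕ} (hi : i < 168) : inM24 (permAt i) = true ∧
    ∀ q ∈ quadTab, quadImg (permAt i) q ∈ aCodes := by
  have h := List.all_eq_true.1 perm_mem i (List.mem_range.2 hi)
  rw [Bool.and_eq_true] at h
  exact ⟨h.1, fun q hq => List.elem_iff.1 (List.all_eq_true.1 h.2 q hq)⟩

theorem permAt_zero_code : permAt 0 = idCode := Nat.eq_of_beq_eq_true perm_gen.2.2.1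

theorem perm_zero : permOf (permAt 0) = 1 := by
  rw [Nat.eq_of_beq_eq_true perm_gen.2.2.1, permOf_idCode]

theorem perm_par {i : ℕ} (hi : i < 168) (hne : i ≠ 0) :
    ∃ j < 2, ∃ p < i, permOf (permAt i) = permOf (genAt j) * permOf (permAt p) := by
  have h := List.all_eq_true.1 perm_tree i (List.mem_range.2 hi)
  rw [Bool.or_eq_true] at h
  rcases h with e | h
  · exact absurd (Nat.eq_of_beq_eq_true e) hne
  · rw [Bool.and_eq_true, Bool.and_eq_true] at h
    obtain ⟨⟨hp, hj⟩, hP⟩ := h
    exact ⟨_, blt_lt' hj, _, blt_lt' hp, (isProd_sound (genAt_valid _)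
      (inM24_valid (permAt_mem ((blt_lt' hp).trans hi)).1) hP).2⟩

theorem perm_mul_gen {i j : ℕ} (hi : i < 168) (hj : j < 2) :
    ∃ k < 168, permOf (permAt k) = permOf (genAt j) * permOf (permAt i) := by
  have h := List.all_eq_true.1 (List.all_eq_true.1 perm_step i (List.mem_range.2 hi)) j
    (List.mem_range.2 hj)
  rw [Bool.and_eq_true] at h
  exact ⟨_, blt_lt' h.1,
    (isProd_sound (genAt_valid _) (inM24_valid (permAt_mem hi).1) h.2).2⟩

theorem triple_inj {i k : ℕ} (hi : i < 168) (hk : k < 168)
    (e : tripleOf (permAt i) = tripleOf (permAt k)) : i = k := by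
  rcases Nat.lt_trichotomy i k with hl | hl | hl
  · have := List.all_eq_true.1 (List.all_eq_true.1 perm_sep k (List.mem_range.2 hk)) i
      (List.mem_range.2 hl)
    rw [e, Nat.beq_refl] at this
    exact Bool.noConfusion this
  · exact hl
  · have := List.all_eq_true.1 (List.all_eq_true.1 perm_sep i (List.mem_range.2 hi)) k
      (List.mem_range.2 hl)
    rw [e, Nat.beq_refl] at this
    exact Bool.noConfusion this

theorem permOf_mem_iff_quad {i k : ℕ} (hi : i < 168) (hk : k < 168)
    (e : permOf (permAt i) = permOf (permAt k)) : i = k := by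
  refine triple_inj hi hk ?_
  refine congrArg (fun l : List ℕ => l.foldr (fun x r => x + 2048 * r) 0) ?_
  have him : ∀ a < 24, img (permAt i) a = img (permAt k) a := fun a ha => by
    have hi' := inM24_valid (permAt_mem hi).1
    have hk' := inM24_valid (permAt_mem hk).1
    have := congrArg idx (Equiv.congr_fun e (pt a))
    rwa [permOf_pt hi' ha, permOf_pt hk' ha, idx_pt (valid_lt hi' ha), idx_pt (valid_lt hk' ha)]
      at this
  have hq : ∀ q ∈ quadTab, q.1 < 24 ∧ q.2.1 < 24 ∧ q.2.2.1 < 24 ∧ q.2.2.2 < 24 := by decide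
  refine List.map_congr_left fun q hq' => ?_
  obtain ⟨a, b, c, d⟩ := hq q hq'
  unfold quadImg
  rw [him _ a, him _ b, him _ c, him _ d]

/-- A group of 168 permutations preserving the eight vectors. -/
theorem exists_perm_group : ∃ S : Subgroup M24, Nat.card S = 168 ∧
    (∀ σ ∈ S, ∃ i < 168, (σ : Equiv.Perm GolayPt) = permOf (permAt i)) ∧
    ∀ i, (h : i < 168) → (⟨_, inM24_mem (permAt_mem h).1⟩ : M24) ∈ S := by
  have h0 := perm_zero
  have hmul : ∀ i < 168, ∀ k < 168, ∃ l < 168,
      permOf (permAt l) = permOf (permAt i) * permOf (permAt k) := by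
    intro i
    induction i using Nat.strong_induction_on with
    | _ i ih =>
      intro hi k hk
      by_cases hne : i = 0
      · exact ⟨k, hk, by rw [hne, h0, one_mul]⟩
      · obtain ⟨j, hj, p, hp, e⟩ := perm_par hi hne
        obtain ⟨l, hl, el⟩ := ih p hp (hp.trans hi) k hk
        obtain ⟨m, hm, em⟩ := perm_mul_gen hl hj
        exact ⟨m, hm, by rw [em, el, e, mul_assoc]⟩
  let C : Submonoid M24 :=
    { carrier := {σ | ∃ i < 168, (σ : Equiv.Perm GolayPt) = permOf (permAt i)}
      one_mem' := ⟨0, by norm_num, h0.symm⟩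
      mul_mem' := by
        rintro a b ⟨i, hi, ei⟩ ⟨k, hk, ek⟩
        obtain ⟨l, hl, el⟩ := hmul i hi k hk
        exact ⟨l, hl, by rw [Subgroup.coe_mul, ei, ek, el]⟩ }
  let S : Subgroup M24 :=
    { C with
      inv_mem' := fun {a} ha => by
        have : a⁻¹ ∈ Submonoid.powers a :=
          (isOfFinOrder_of_finite a).mem_powers_iff_mem_zpowers.2 (inv_mem (Subgroup.mem_zpowers a))
        obtain ⟨n, hn⟩ := this
        rw [← hn]
        exact pow_mem (show a ∈ C from ha) n }
  refine ⟨S, ?_, fun σ h => h, fun i h => ⟨i, h, rfl⟩⟩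
  rw [← Nat.card_fin 168]
  refine (Nat.card_eq_of_bijective (fun i : Fin 168 =>
    (⟨⟨_, inM24_mem (permAt_mem i.2).1⟩, i, i.2, rfl⟩ : S)) ⟨?_, ?_⟩).symm
  · intro i k e
    exact Fin.ext (permOf_mem_iff_quad i.2 k.2
      (congrArg (fun x : S => ((x : M24) : Equiv.Perm GolayPt)) e))
  · rintro ⟨σ, i, hi, e⟩
    exact ⟨⟨i, hi⟩, Subtype.ext (Subtype.ext e.symm)⟩

end CfsgLib.J4Type.Eight
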