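import Cfsg.Agent.Lib.J4Type.Eight.Cert
import Cfsg.Agent.Lib.J4Type.Eight.PermCert

/-!
The elementary abelian group of order eight over the line of five, its centraliser, and the
preimage of the sixteen.
-/

set_option autoImplicit false
set_option linter.unusedSectionVars false
set_option maxRecDepth 100000

namespace CfsgLib.J4Type

namespace Eight

open NV

theorem aCodes_ok : (aCodes.all fun m => Nat.blt m 2048 && aCodes.all fun n => aCodes.elem (m ^^^ n)) = true := by
  decide +kernel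

theorem perp_count : ((List.range 4096).filter fun v => !bF v 5 && !bF v 10).length = 1024 := by
  decide +kernel

theorem pairing_ok : (bF 128 5 && !bF 128 10 && !bF 64 5 && bF 64 10) = true := by decide +kernel

theorem line_perp_ok : ((line.all fun v => !bF v 5 && !bF v 10) &&
    (List.range 4096).all fun u => bF u 5 || bF u 10 || line.elem u ||
      (List.range 4096).any fun v => !bF v 5 && !bF v 10 && bF u v) = true := by
  decide +kernel

end Eight

variable {G : Type*} [Group G] [Finite G] {z : G} {P : Subgroup G}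

namespace Frame

open Cfsg Subgroup NV Eight

variable {F : Frame z P} (D : VData F)
include D

/-- The elementary abelian subgroup of order eight. -/
noncomputable def Aei : Subgroup G where
  carrier := {x | ∃ n ∈ aCodes, vE D n = x}
  one_mem' := ⟨0, by decide, vE_zero D⟩
  mul_mem' := by
    rintro _ _ ⟨m, hm, rfl⟩ ⟨n, hn, rfl⟩
    have h := List.all_eq_true.1 aCodes_ok m hm
    simp only [Bool.and_eq_true, List.all_eq_true, List.elem_iff] at h
    have h' := List.all_eq_true.1 aCodes_ok n hn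
    simp only [Bool.and_eq_true] at h'
    exact ⟨m ^^^ n, h.2 n hn, vE_xor D (Cert.blt_lt h.1) (Cert.blt_lt h'.1)⟩
  inv_mem' := by
    rintro _ ⟨n, hn, rfl⟩
    have h := List.all_eq_true.1 aCodes_ok n hn
    simp only [Bool.and_eq_true] at h
    exact ⟨n, hn, eq_inv_of_mul_eq_one_left (V_sq D (vE_mem D (Cert.blt_lt h.1)))⟩

theorem aCodes_lt {n : ℕ} (hn : n ∈ aCodes) : n < 2048 := by
  have h := List.all_eq_true.1 aCodes_ok n hn
  simp only [Bool.and_eq_true] at h
  exact Cert.blt_lt h.1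

theorem mem_Aei {x : G} : x ∈ Aei D ↔ ∃ n ∈ aCodes, vE D n = x := Iff.rfl

theorem Aei_le : Aei D ≤ D.V := by
  rintro _ ⟨n, hn, rfl⟩
  exact vE_mem D (aCodes_lt D hn)

theorem z_mem_Aei : z ∈ Aei D := ⟨64, by decide, vE_z D⟩

theorem card_Aei : Nat.card (Aei D) = 8 := by
  have hlen : aCodes.length = 8 := rfl
  rw [← Nat.card_fin 8]
  refine (Nat.card_eq_of_bijective (fun i : Fin 8 =>
    (⟨vE D (aCodes.getD i 0), ⟨_, Cert.getD_mem _ (by rw [hlen]; exact i.2), rfl⟩⟩ : Aei D)) ⟨?_, ?_⟩).symm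
  · intro i j e
    have e' := vE_injOn D (aCodes_lt D (Cert.getD_mem _ (by rw [hlen]; exact i.2)))
      (aCodes_lt D (Cert.getD_mem _ (by rw [hlen]; exact j.2))) (congrArg Subtype.val e)
    revert e'
    fin_cases i <;> fin_cases j <;> decide
  · rintro ⟨_, n, hn, rfl⟩
    obtain ⟨i, hi, e⟩ := Cert.mem_getD 0 hn
    exact ⟨⟨i, by rw [← hlen]; exact hi⟩, Subtype.ext (by show vE D (aCodes.getD i 0) = vE D n; rw [e])⟩

theorem vE_low_eE {n : ℕ} (hn : n < 64) : vE D n = F.eE n := by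
  rw [vE, Nat.mod_eq_of_lt hn, Nat.testBit_lt_two_pow (hn : n < 2 ^ 6),
    Nat.div_eq_of_lt (by omega : n < 128), vC_zero, mul_one]
  show F.eE n * 1 = F.eE n
  rw [mul_one]

/-- An element of the radical over the line lies in the eight. -/
theorem rad_mem_Aei {x : G} (hx : x ∈ Rad z) (hl : F.co x ∈ line) : x ∈ Aei D := by
  have hv : F.co x < 64 := by revert hl; generalize F.co x = v; revert v; decide
  have hm : F.eE (F.co x) ∈ Aei D := by
    refine ⟨F.co x, ?_, vE_low_eE D hv⟩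
    revert hl; generalize F.co x = v; revert v; decide
  rcases F.eq_or_eq_mul_z hx (F.eE_spec (F.co_lt x hx)).1 (F.eE_spec (F.co_lt x hx)).2.1.symm with e | e
  · rwa [e]
  · rw [e]; exact mul_mem hm (z_mem_Aei D)

theorem eE_mem_Aei : F.eE 5 ∈ Aei D ∧ F.eE 10 ∈ Aei D :=
  ⟨⟨5, by decide, vE_low_eE D (by norm_num)⟩, ⟨10, by decide, vE_low_eE D (by norm_num)⟩⟩

theorem mem_centralizer_Aei {g : G} : g ∈ centralizer (Aei D : Set G) ↔
    g ∈ Cen z ∧ g * F.eE 5 = F.eE 5 * g ∧ g * F.eE 10 = F.eE 10 * g := by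
  constructor
  · intro h
    exact ⟨mem_Cen.2 (mem_centralizer_iff.1 h z (z_mem_Aei D)).symm,
      (mem_centralizer_iff.1 h _ (eE_mem_Aei D).1).symm, (mem_centralizer_iff.1 h _ (eE_mem_Aei D).2).symm⟩
  · rintro ⟨hz, h5, h10⟩
    have c5 : Commute g (vE D 5) := by rw [vE_low_eE D (by norm_num)]; exact h5
    have c10 : Commute g (vE D 10) := by rw [vE_low_eE D (by norm_num)]; exact h10
    have c64 : Commute g (vE D 64) := by rw [vE_z D]; exact F.z_comm hz
    have c15 : Commute g (vE D 15) := by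
      rw [show (15 : ℕ) = 5 ^^^ 10 by rfl, vE_xor D (by norm_num) (by norm_num)]
      exact c5.mul_right c10
    have hadd : ∀ n < 64, Commute g (vE D n) → Commute g (vE D (n ^^^ 64)) := fun n hn hc => by
      rw [vE_xor D (by omega) (by norm_num)]; exact hc.mul_right c64
    rw [mem_centralizer_iff]
    rintro _ ⟨n, hn, rfl⟩
    simp only [aCodes, List.mem_cons, List.not_mem_nil, or_false] at hn
    rcases hn with rfl | rfl | rfl | rfl | rfl | rfl | rfl | rfl
    · rw [vE_zero, mul_one, one_mul]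
    · exact c5.symm.eq
    · exact c10.symm.eq
    · exact c15.symm.eq
    · exact c64.symm.eq
    · exact (hadd 5 (by norm_num) c5).symm.eq
    · exact (hadd 10 (by norm_num) c10).symm.eq
    · exact (hadd 15 (by norm_num) c15).symm.eq

theorem centAei_le : centralizer (Aei D : Set G) ≤ Cen z := fun _ h =>
  ((mem_centralizer_Aei D).1 h).1

theorem conj_rad {e y : G} (he : e ∈ Rad z) (hy : y ∈ Rad z) :
    e * y * e⁻¹ = y * F.zp (bF (F.co e) (F.co y)) := by
  have h := F.comm_rad he hy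
  rw [h, mul_assoc, mul_assoc, zp]
  have hc : ∀ b : Bool, (if b then z else 1) * e⁻¹ = e⁻¹ * (if b then z else 1) := fun b => by
    cases b
    · simp
    · simpa using (F.z_comm_rad (inv_mem he)).symm
  rw [hc, mul_inv_cancel_left]

theorem mat_mem_fixGrp {g : G} (hg : g ∈ centralizer (Aei D : Set G)) :
    (⟨F.mat g, F.mat_inL g (centAei_le D hg)⟩ : Cert.LGrp) ∈ fixGrp := by
  obtain ⟨hz, h5, h10⟩ := (mem_centralizer_Aei D).1 hg
  obtain ⟨p1, p2, -⟩ := F.eE_spec (show (5 : ℕ) < 4096 by norm_num)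
  obtain ⟨q1, q2, -⟩ := F.eE_spec (show (10 : ℕ) < 4096 by norm_num)
  refine mem_fixGrp.2 ?_
  have e5 := F.conj_co hz p1
  have e10 := F.conj_co hz q1
  rw [h5, mul_inv_cancel_right, p2] at e5
  rw [h10, mul_inv_cancel_right, q2] at e10
  exact ⟨e5.symm, e10.symm⟩

/-- The map of the centraliser to the stabiliser of the line. -/
noncomputable def muA : ↥(centralizer (Aei D : Set G)) →* fixGrp where
  toFun g := ⟨⟨F.mat g, F.mat_inL g (centAei_le D g.2)⟩, mat_mem_fixGrp D g.2⟩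
  map_one' := Subtype.ext (Subtype.ext F.mat_one)
  map_mul' a b := Subtype.ext (Subtype.ext (F.mat_mul a (centAei_le D a.2) b (centAei_le D b.2)))

theorem muA_surjective : Function.Surjective (muA D) := by
  rintro ⟨m, hm⟩
  obtain ⟨h, hh, hmat⟩ := F.mat_surj m.1 m.2
  obtain ⟨p1, p2, -⟩ := F.eE_spec (show (5 : ℕ) < 4096 by norm_num)
  obtain ⟨q1, q2, -⟩ := F.eE_spec (show (10 : ℕ) < 4096 by norm_num)
  obtain ⟨h5, h10⟩ := mem_fixGrp.1 hm
  have hx : ∀ x ∈ Rad z, mv m.1 (F.co x) = F.co x → ∃ b, h * x * h⁻¹ = x * F.zp b := by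
    intro x hx hfix
    rcases F.eq_or_eq_mul_z (F.rad_conj hh.1 hx) hx (by rw [F.conj_co hh.1 hx, hmat, hfix]) with e | e
    · exact ⟨false, by rw [e]; exact (mul_one x).symm⟩
    · exact ⟨true, e⟩
  obtain ⟨b5, e5⟩ := hx _ p1 (by rw [p2, h5])
  obtain ⟨b10, e10⟩ := hx _ q1 (by rw [q2, h10])
  obtain ⟨e, he, hc5, hc10⟩ : ∃ e ∈ Rad z, bF (F.co e) 5 = b5 ∧ bF (F.co e) 10 = b10 := by
    have hp := pairing_ok
    simp only [Bool.and_eq_true, Bool.not_eq_true'] at hp
    obtain ⟨⟨⟨a1, a2⟩, a3⟩, a4⟩ := hp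
    obtain ⟨r1, r2, -⟩ := F.eE_spec (show (128 : ℕ) < 4096 by norm_num)
    obtain ⟨s1, s2, -⟩ := F.eE_spec (show (64 : ℕ) < 4096 by norm_num)
    cases b5 <;> cases b10
    · exact ⟨1, one_mem _, by rw [F.co_one]; decide +kernel, by rw [F.co_one]; decide +kernel⟩
    · exact ⟨_, s1, by rw [s2, a3], by rw [s2, a4]⟩
    · exact ⟨_, r1, by rw [r2, a1], by rw [r2, a2]⟩
    · refine ⟨_, mul_mem r1 s1, ?_, ?_⟩ <;> rw [F.co_mul _ r1 _ s1, r2, s2] <;> decide +kernel
  have heC : e * h ∈ Cen z := mul_mem (rad_le_Cen he) hh.1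
  have key : ∀ x ∈ Rad z, ∀ b, h * x * h⁻¹ = x * F.zp b → bF (F.co e) (F.co x) = b →
      e * h * x = x * (e * h) := by
    intro x hx b hb hbe
    have h2 : e * h * x * (e * h)⁻¹ = x := by
      rw [show e * h * x * (e * h)⁻¹ = e * (h * x * h⁻¹) * e⁻¹ by group, hb,
        show e * (x * F.zp b) * e⁻¹ = e * x * e⁻¹ * (e * F.zp b * e⁻¹) by group,
        conj_rad D he hx, hbe, F.zp_comm (rad_le_Cen he), mul_inv_cancel_right, mul_assoc, F.zp_mul,
        Bool.xor_self]
      exact mul_one x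
    exact mul_inv_eq_iff_eq_mul.1 h2
  have hg : e * h ∈ centralizer (Aei D : Set G) := (mem_centralizer_Aei D).2
    ⟨heC, key _ p1 _ e5 (by rw [p2, hc5]), key _ q1 _ e10 (by rw [q2, hc10])⟩
  refine ⟨⟨e * h, hg⟩, Subtype.ext (Subtype.ext ?_)⟩
  show F.mat (e * h) = m.1
  rw [F.mat_mul e (rad_le_Cen he) h hh.1, (F.mat_eq_id e (rad_le_Cen he)).2 he, hmat, m.2.idM_mm]

/-- The centraliser of the eight in the radical. -/
theorem mem_rad_centAei {x : G} (hx : x ∈ Rad z) :
    x ∈ centralizer (Aei D : Set G) ↔ bF (F.co x) 5 = false ∧ bF (F.co x) 10 = false := by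
  obtain ⟨p1, p2, -⟩ := F.eE_spec (show (5 : ℕ) < 4096 by norm_num)
  obtain ⟨q1, q2, -⟩ := F.eE_spec (show (10 : ℕ) < 4096 by norm_num)
  have key : ∀ y ∈ Rad z, x * y = y * x ↔ bF (F.co x) (F.co y) = false := by
    intro y hy
    have h := conj_rad D hx hy
    constructor
    · intro e
      rw [e, mul_inv_cancel_right] at h
      have h2 : F.zp (bF (F.co x) (F.co y)) = F.zp false := left_eq_mul.1 h
      exact F.zp_inj h2
    · intro e
      rw [e] at h
      exact mul_inv_eq_iff_eq_mul.1 (h.trans (mul_one y))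
  rw [mem_centralizer_Aei D, key _ p1, key _ q1, p2, q2]
  exact ⟨fun h => h.2, fun h => ⟨rad_le_Cen hx, h⟩⟩

theorem card_radCent : Nat.card ↥(Rad z ⊓ centralizer (Aei D : Set G)) = 2 ^ 11 := by
  obtain ⟨s, hs⟩ : ∃ s, s = ((List.range 4096).filter fun v => !bF v 5 && !bF v 10).toFinset := ⟨_, rfl⟩
  have hsc : s.card = 1024 := by
    rw [hs, List.toFinset_card_of_nodup (List.nodup_range.filter _), perp_count]
  have hmem : ∀ v, v ∈ s ↔ v < 4096 ∧ bF v 5 = false ∧ bF v 10 = false := fun v => by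
    simp [hs]
  have hs1 : ∀ x : s × Bool, F.eE x.1 * F.zp x.2 ∈ Rad z ∧ F.co (F.eE x.1 * F.zp x.2) = x.1 := fun x => by
    obtain ⟨a, b, -⟩ := F.eE_spec ((hmem _).1 x.1.2).1
    exact ⟨mul_mem a (F.zp_mem _), by rw [F.co_mul _ a _ (F.zp_mem _), b, F.co_zp, Nat.xor_zero]⟩
  rw [← Nat.card_eq_of_bijective (fun x : s × Bool =>
    (⟨F.eE x.1 * F.zp x.2, (hs1 x).1, (mem_rad_centAei D (hs1 x).1).2
      (by rw [(hs1 x).2]; exact ((hmem _).1 x.1.2).2)⟩ : ↥(Rad z ⊓ centralizer (Aei D : Set G)))) ⟨?_, ?_⟩]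
  · rw [Nat.card_prod, Nat.card_eq_fintype_card, Fintype.card_coe, hsc, Nat.card_eq_fintype_card,
      Fintype.card_bool]
    norm_num
  · rintro ⟨v, b⟩ ⟨w, c⟩ e
    have e' := congrArg Subtype.val e
    have hvw : v = w := Subtype.ext (by rw [← (hs1 (v, b)).2, ← (hs1 (w, c)).2]; exact congrArg F.co e')
    subst hvw
    exact Prod.ext rfl (F.zp_inj (mul_left_cancel e'))
  · rintro ⟨x, hx, hxc⟩
    obtain ⟨b, hb⟩ := F.nm_mem_pair hx
    exact ⟨⟨⟨F.co x, (hmem _).2 ⟨F.co_lt x hx, (mem_rad_centAei D hx).1 hxc⟩⟩, b⟩,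
      Subtype.ext (F.eq_eE_mul hx hb).symm⟩

theorem muA_ker : (muA D).ker = (Rad z ⊓ centralizer (Aei D : Set G)).subgroupOf
    (centralizer (Aei D : Set G)) := by
  ext g
  rw [MonoidHom.mem_ker, mem_subgroupOf, mem_inf, ← F.mat_eq_id g (centAei_le D g.2)]
  exact ⟨fun e => ⟨congrArg (fun m : fixGrp => (m : Cert.LGrp).1) e, g.2⟩,
    fun e => Subtype.ext (Subtype.ext e.1)⟩

theorem card_centAei : Nat.card ↥(centralizer (Aei D : Set G)) = 2 ^ 15 * 120 := by
  have h := (muA D).ker.card_mul_index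
  rw [Subgroup.index_ker, MonoidHom.range_eq_top.2 (muA_surjective D), Subgroup.card_top, card_fixGrp,
    muA_ker, Nat.card_congr (subgroupOfEquivOfLe inf_le_right).toEquiv, card_radCent] at h
  omega

/-- The preimage of the sixteen. -/
noncomputable def Lei : Subgroup G :=
  (fixPlane.normalCore.comap (muA D)).map (centralizer (Aei D : Set G)).subtype

theorem mem_Lei {g : G} : g ∈ Lei D ↔ g ∈ centralizer (Aei D : Set G) ∧ F.mat g ∈ oEls := by
  constructor
  · rintro ⟨g, hg, rfl⟩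
    exact ⟨g.2, mem_normalCore.1 hg⟩
  · rintro ⟨hg, h⟩
    exact ⟨⟨g, hg⟩, mem_normalCore.2 h, rfl⟩

theorem Lei_le : Lei D ≤ centralizer (Aei D : Set G) := Subgroup.map_subtype_le _

theorem card_Lei : Nat.card (Lei D) = 2 ^ 15 := by
  rw [Lei, Subgroup.card_map_of_injective (Subgroup.subtype_injective _)]
  have h := (fixPlane.normalCore.comap (muA D)).card_mul_index
  rw [Subgroup.index_comap_of_surjective _ (muA_surjective D), card_centAei] at h
  have h2 := fixPlane.normalCore.card_mul_index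
  rw [card_normalCore, card_fixGrp] at h2
  rw [show fixPlane.normalCore.index = 120 by omega] at h
  omega

theorem index_norm_centAei :
    ((normalizer (D.V : Set G)).subgroupOf (centralizer (Aei D : Set G))).index = 5 := by
  have e : (normalizer (D.V : Set G)).subgroupOf (centralizer (Aei D : Set G)) = fixPlane.comap (muA D) := by
    ext g
    rw [mem_subgroupOf, mem_comap, stabF_iff_norm D (centAei_le D g.2)]
    exact Iff.rfl
  rw [e, Subgroup.index_comap_of_surjective _ (muA_surjective D), index_fixPlane]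

end Frame

end CfsgLib.J4Type
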