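import Cfsg.Agent.Lib.J4Type.NV.Norm
import Cfsg.Agent.Lib.J4Type.Eight.Data

/-!
The pointwise stabiliser of the line of the vector five has order 1920; it permutes the five planes
through the line with a kernel of order sixteen, which is irreducible and moves nothing modulo the
line in its perpendicular space.
-/

set_option autoImplicit false
set_option maxRecDepth 100000

namespace CfsgLib.J4Type.Eight

open Cert NV

/-- The vectors of the line of five. -/
def line : List ℕ := [0, 5, 10, 15]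

/-- The pointwise stabiliser of the line. -/
noncomputable def fixGrp : Subgroup LGrp where
  carrier := {m | mv m.1 5 = 5 ∧ mv m.1 10 = 10}
  one_mem' := ⟨Cert.mv_idM (by norm_num), Cert.mv_idM (by norm_num)⟩
  mul_mem' := fun {a b} ha hb => by
    refine ⟨?_, ?_⟩
    · show mv (mm a.1 b.1) 5 = 5
      rw [Cert.mv_mm, hb.1, ha.1]
    · show mv (mm a.1 b.1) 10 = 10
      rw [Cert.mv_mm, hb.2, ha.2]
  inv_mem' := fun {a} ha => by
    refine ⟨?_, ?_⟩
    · have := a.act_inv (v := 5) (by norm_num)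
      rwa [LGrp.act, LGrp.act, ha.1] at this
    · have := a.act_inv (v := 10) (by norm_num)
      rwa [LGrp.act, LGrp.act, ha.2] at this

theorem mem_fixGrp {m : LGrp} : m ∈ fixGrp ↔ mv m.1 5 = 5 ∧ mv m.1 10 = 10 := Iff.rfl

theorem scalar_comm_ok : ((gensX.all fun g => mm g pOm == mm pOm g) && (mm idM pOm == mm pOm idM) &&
    Nat.beq (mv pOm 5) 10 && Nat.beq (mv pOm 10) 15 && Nat.beq (mv sig 5) 5 &&
    Nat.beq (mv sig 10) 15) = true := by
  decide +kernel

theorem inX_comm {m : List ℕ} (h : InX m) : mm m pOm = mm pOm m := by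
  have hk := scalar_comm_ok
  simp only [Bool.and_eq_true, List.all_eq_true, beq_iff_eq] at hk
  induction h with
  | one => exact hk.1.1.1.1.2
  | mul g hg _ ih =>
    rw [Cert.mm_assoc, ih, ← Cert.mm_assoc, hk.1.1.1.1.1 g hg, Cert.mm_assoc]

theorem five_sep : ((List.range 693).all fun i =>
    !Nat.beq (mv pOm (fiveAt i)) (mv pOm (mv pOm (fiveAt i)))) = true := by
  decide +kernel

theorem five_count : ((List.range 4096).filter fun v => fiveMask.testBit v).length = 693 := by
  decide +kernel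

theorem fiveAt_inj {i j : ℕ} (hi : i < 693) (hj : j < 693) (e : fiveAt i = fiveAt j) : i = j := by
  have hsub : ((List.range 4096).filter fun v => fiveMask.testBit v).toFinset ⊆
      (Finset.range 693).image fiveAt := by
    intro v hv
    simp only [List.mem_toFinset, List.mem_filter] at hv
    obtain ⟨k, hk, rfl⟩ := fiveMask_iff hv.2
    exact Finset.mem_image_of_mem _ (Finset.mem_range.2 hk)
  have hc := Finset.card_le_card hsub
  rw [List.toFinset_card_of_nodup (List.nodup_range.filter _), five_count] at hc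
  have hinj : Set.InjOn fiveAt (Finset.range 693) := Finset.card_image_iff.1
    (le_antisymm Finset.card_image_le (by rw [Finset.card_range]; exact hc))
  exact hinj (by simpa using hi) (by simpa using hj) e

/-- The image of the pair. -/
def pairAt (x : Fin 693 × Bool) : ℕ × ℕ :=
  (fiveAt x.1, bif x.2 then mv pOm (mv pOm (fiveAt x.1)) else mv pOm (fiveAt x.1))

theorem pairAt_inj : Function.Injective pairAt := by
  have h := five_sep
  simp only [List.all_eq_true, List.mem_range, Bool.not_eq_true'] at h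
  rintro ⟨i, e⟩ ⟨j, e'⟩ heq
  obtain ⟨h1, h2⟩ := Prod.mk.injEq .. ▸ heq
  have hij : i = j := Fin.ext (fiveAt_inj i.2 j.2 h1)
  subst hij
  have hne : mv pOm (fiveAt i) ≠ mv pOm (mv pOm (fiveAt i)) := fun e'' => by
    have h3 := h i i.2
    rw [← e'', Nat.beq_refl] at h3
    exact Bool.noConfusion h3
  cases e <;> cases e' <;> first | rfl | exact absurd h2 hne | exact absurd h2.symm hne

theorem pair_image {m : LGrp} : ∃ x, pairAt x = (mv m.1 5, mv m.1 10) := by
  have hk := scalar_comm_ok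
  simp only [Bool.and_eq_true, List.all_eq_true, beq_iff_eq, Nat.beq_eq] at hk
  obtain ⟨⟨⟨⟨⟨-, -⟩, h10⟩, h15⟩, hs5⟩, hs10⟩ := hk
  obtain ⟨i, hi, e⟩ := fiveMask_iff (orbOK.closed fiveOrb_ok (by norm_num) (by norm_num)
    (fun _ h => fiveMask_iff h) m.2)
  have hcomm : ∀ {x : List ℕ}, InX x → ∀ v, mv x (mv pOm v) = mv pOm (mv x v) := fun hx v => by
    rw [← Cert.mv_mm, inX_comm hx, Cert.mv_mm]
  rcases m.2.cases_sig with hx | ⟨x, hx, em⟩
  · refine ⟨(⟨i, hi⟩, false), ?_⟩
    show (fiveAt i, mv pOm (fiveAt i)) = _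
    rw [e, ← hcomm hx, h10]
  · refine ⟨(⟨i, hi⟩, true), ?_⟩
    show (fiveAt i, mv pOm (mv pOm (fiveAt i))) = _
    rw [e, em, Cert.mv_mm, Cert.mv_mm, hs5, hs10, ← hcomm hx, ← hcomm hx, h10, h15]

theorem card_fixGrp : Nat.card fixGrp = 1920 := by
  obtain ⟨s, hs⟩ : ∃ s : Fin 4096 × Fin 4096, s = ((⟨5, by norm_num⟩, ⟨10, by norm_num⟩) : Fin 4096 × Fin 4096) :=
    ⟨_, rfl⟩
  have hst : MulAction.stabilizer LGrp s = fixGrp := by
    ext m
    rw [MulAction.mem_stabilizer_iff, mem_fixGrp, hs, Prod.smul_mk, Prod.ext_iff, Fin.ext_iff,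
      Fin.ext_iff]
    rfl
  have hk := scalar_comm_ok
  simp only [Bool.and_eq_true, List.all_eq_true, beq_iff_eq, Nat.beq_eq] at hk
  obtain ⟨⟨⟨⟨⟨-, -⟩, h10⟩, h15⟩, hs5⟩, hs10⟩ := hk
  have hreach : ∀ x : Fin 693 × Bool, ∃ m : LGrp, (mv m.1 5, mv m.1 10) = pairAt x := by
    rintro ⟨i, e⟩
    obtain ⟨x, hx, ex⟩ := orbOK.reach fiveOrb_ok (by norm_num) i i.2
    have hc : ∀ v, mv x (mv pOm v) = mv pOm (mv x v) := fun v => by
      rw [← Cert.mv_mm, inX_comm hx, Cert.mv_mm]
    cases e
    · refine ⟨⟨x, hx.inL⟩, ?_⟩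
      show (mv x 5, mv x 10) = (fiveAt i, mv pOm (fiveAt i))
      rw [← ex, ← hc, h10]
    · refine ⟨⟨mm x sig, hx.inL.comp InL.sig_mem⟩, ?_⟩
      show (mv (mm x sig) 5, mv (mm x sig) 10) = (fiveAt i, mv pOm (mv pOm (fiveAt i)))
      rw [Cert.mv_mm, Cert.mv_mm, hs5, hs10, ← ex, ← hc, ← hc, h10, h15]
  have horb : Nat.card (MulAction.orbit LGrp s) = 1386 := by
    have e : MulAction.orbit LGrp s = Set.range (fun x : Fin 693 × Bool =>
        ((⟨(pairAt x).1, by obtain ⟨m, hm⟩ := hreach x; rw [← hm]; exact m.2.mv_lt _⟩,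
          ⟨(pairAt x).2, by obtain ⟨m, hm⟩ := hreach x; rw [← hm]; exact m.2.mv_lt _⟩) :
            Fin 4096 × Fin 4096)) := by
      ext y
      constructor
      · rintro ⟨m, rfl⟩
        obtain ⟨x, hx⟩ := pair_image (m := m)
        refine ⟨x, ?_⟩
        rw [hs]
        exact Prod.ext (Fin.ext (congrArg Prod.fst hx)) (Fin.ext (congrArg Prod.snd hx))
      · rintro ⟨x, rfl⟩
        obtain ⟨m, hm⟩ := hreach x
        refine ⟨m, ?_⟩
        rw [hs]
        exact Prod.ext (Fin.ext (congrArg Prod.fst hm)) (Fin.ext (congrArg Prod.snd hm))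
    rw [e, Nat.card_range_of_injective]
    · simp
    · intro a b hab
      exact pairAt_inj (Prod.ext (congrArg (fun y : Fin 4096 × Fin 4096 => (y.1 : ℕ)) hab)
        (congrArg (fun y : Fin 4096 × Fin 4096 => (y.2 : ℕ)) hab))
  have h := (MulAction.stabilizer LGrp s).card_mul_index
  rw [MulAction.index_stabilizer, ← Nat.card_coe_set_eq, horb, hst, card_LGrp] at h
  omega

/-- A representative. -/
def rpM (i : ℕ) : List ℕ := repM.getD i noMap

/-- The inverse of a representative. -/
def rpI (i : ℕ) : List ℕ := repI.getD i noMap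

/-- An element of the kernel. -/
def oM (i : ℕ) : List ℕ := oEls.getD i noMap

theorem rep_ok : ((List.range 5).all fun i =>
    codeOK (repCode.getD i (0, 0, 0, 0)) && decodeM (repCode.getD i (0, 0, 0, 0)) == rpM i &&
    Nat.beq (mv (rpM i) 5) 5 && Nat.beq (mv (rpM i) 10) 10 && mm (rpI i) (rpM i) == idM &&
    mm (rpI i) idM == rpI i &&
    (List.range 5).all fun j => Nat.beq i j || !stabF (mm (rpI i) (rpM j))) = true := by
  decide +kernel

theorem cover_ok : ((List.range 77).all fun p =>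
    !((List.range 64).any fun w => Nat.beq (mv (rM p) w) 5) ||
    !((List.range 64).any fun w => Nat.beq (mv (rM p) w) 10) ||
    (List.range 5).any fun i => stabF (mm (rpI i) (rM p))) = true := by
  decide +kernel

theorem zero_ok : (rpM 0 == idM && rpI 0 == idM) = true := by decide +kernel

theorem exists_rpE {i : ℕ} (hi : i < 5) : ∃ r : LGrp, r.1 = rpM i ∧ (r⁻¹).1 = rpI i ∧ r ∈ fixGrp := by
  have h := List.all_eq_true.1 rep_ok i (List.mem_range.2 hi)
  simp only [Bool.and_eq_true, beq_iff_eq, Nat.beq_eq] at h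
  obtain ⟨⟨⟨⟨⟨⟨hc, hd⟩, h5⟩, h10⟩, hinv⟩, hid⟩, -⟩ := h
  obtain ⟨r, hr⟩ : ∃ r : LGrp, r.1 = rpM i := ⟨⟨_, inL_decodeM hc⟩, hd⟩
  refine ⟨r, hr, ?_, ?_⟩
  · calc (r⁻¹).1 = mm (mm (rpI i) (rpM i)) (r⁻¹).1 := by rw [hinv, r⁻¹.2.idM_mm]
      _ = mm (rpI i) (r * r⁻¹).1 := by rw [Cert.mm_assoc, LGrp.val_mul, hr]
      _ = rpI i := by rw [mul_inv_cancel, LGrp.val_one, hid]
  · rw [mem_fixGrp, hr]; exact ⟨h5, h10⟩

/-- The representative as an element. -/
noncomputable def rpE (i : Fin 5) : LGrp := (exists_rpE i.2).choose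

theorem rpE_spec (i : Fin 5) :
    (rpE i).1 = rpM i ∧ ((rpE i)⁻¹).1 = rpI i ∧ rpE i ∈ fixGrp :=
  (exists_rpE i.2).choose_spec

/-- The five cosets of the stabiliser of the plane in the pointwise stabiliser of the line. -/
theorem exists_rep {m : LGrp} (hm : m ∈ fixGrp) : ∃ i : Fin 5, (rpE i)⁻¹ * m ∈ planeStab := by
  have key : ∀ p < 77, ∀ s, InL s → stabF s = true → m.1 = mm (rM p) s →
      ∃ i : Fin 5, (rpE i)⁻¹ * m ∈ planeStab := by
    intro p hp s hs hsF e
    have h := List.all_eq_true.1 cover_ok p (List.mem_range.2 hp)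
    simp only [Bool.or_eq_true, Bool.not_eq_true', List.any_eq_false, List.mem_range,
      List.any_eq_true, Nat.beq_eq] at h
    obtain ⟨h5, h10⟩ := mem_fixGrp.1 hm
    rw [e, Cert.mv_mm] at h5 h10
    rcases h with (h | h) | ⟨i, hi, hF⟩
    · exact absurd h5 (h _ (mv_lt_plane hsF 5 (by norm_num)))
    · exact absurd h10 (h _ (mv_lt_plane hsF 10 (by norm_num)))
    · refine ⟨⟨i, hi⟩, ?_⟩
      rw [mem_planeStab, LGrp.val_mul, (rpE_spec ⟨i, hi⟩).2.1, e, ← Cert.mm_assoc]
      exact stabF_mm hF hsF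
  rcases m.2.cases_sig with hx | ⟨x, hx, em⟩
  · obtain ⟨p, hp, a, ha, k, hk, e⟩ := hx.decomp
    exact key p hp _ (inX_stab ha hk).inL (stabF_stab ha hk) e
  · obtain ⟨p, hp, a, ha, k, hk, rfl⟩ := hx.decomp
    exact key p hp _ ((inX_stab ha hk).inL.comp InL.sig_mem)
      (stabF_mm (stabF_stab ha hk) stabF_sig) (by rw [em, Cert.mm_assoc])

/-- The plane stabiliser inside the stabiliser of the line. -/
noncomputable def fixPlane : Subgroup fixGrp := planeStab.subgroupOf fixGrp

theorem index_fixPlane : fixPlane.index = 5 := by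
  rw [Subgroup.index_eq_card, ← Nat.card_fin 5]
  refine (Nat.card_eq_of_bijective
    (fun i : Fin 5 => (QuotientGroup.mk ⟨rpE i, (rpE_spec i).2.2⟩ : fixGrp ⧸ fixPlane)) ⟨?_, ?_⟩).symm
  · intro i j e
    rw [QuotientGroup.eq, fixPlane, Subgroup.mem_subgroupOf, mem_planeStab] at e
    simp only [Subgroup.coe_mul, Subgroup.coe_inv, LGrp.val_mul, (rpE_spec i).2.1,
      (rpE_spec j).1] at e
    by_contra hne
    have h := List.all_eq_true.1 rep_ok i (List.mem_range.2 i.2)
    simp only [Bool.and_eq_true, List.all_eq_true, List.mem_range, Bool.or_eq_true, Nat.beq_eq,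
      Bool.not_eq_true'] at h
    rcases h.2 j j.2 with e' | e'
    · exact hne (Fin.ext e')
    · rw [e] at e'; exact Bool.noConfusion e'
  · intro q
    obtain ⟨m, rfl⟩ := QuotientGroup.mk_surjective q
    obtain ⟨i, hi⟩ := exists_rep m.2
    exact ⟨i, QuotientGroup.eq.2 hi⟩

/-- An element of the Levi part, with or without the semilinear involution. -/
def lvl (k : ℕ) (e : Bool) : List ℕ := bif e then mm (kM k) sig else kM k

theorem scan_ok : ((List.range 1080).all fun k => [false, true].all fun e =>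
    !(Nat.beq (mv (lvl k e) 5) 5 && Nat.beq (mv (lvl k e) 10) 10) || (List.range 16).all fun a =>
      !((List.range 5).all fun i => stabF (mm (rpI i) (mm (mm (qM a) (lvl k e)) (rpM i)))) ||
        oEls.elem (mm (qM a) (lvl k e))) = true := by
  decide +kernel

theorem qM_plane_ok : ((List.range 16).all fun a => (List.range 64).all fun v =>
    Nat.beq (mv (qM a) v) v) = true := by
  decide +kernel

/-- An element fixing the line and the five planes is one of the sixteen. -/
theorem mem_oEls {m : LGrp} (hm : m ∈ fixGrp)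
    (h : ∀ i : Fin 5, (rpE i)⁻¹ * m * rpE i ∈ planeStab) : m.1 ∈ oEls := by
  have h' : ∀ i < 5, stabF (mm (rpI i) (mm m.1 (rpM i))) = true := fun i hi => by
    have := h ⟨i, hi⟩
    rwa [mul_assoc, mem_planeStab, LGrp.val_mul, LGrp.val_mul, (rpE_spec ⟨i, hi⟩).2.1,
      (rpE_spec ⟨i, hi⟩).1] at this
  have hz := zero_ok
  simp only [Bool.and_eq_true, beq_iff_eq] at hz
  have h0 := h' 0 (by norm_num)
  rw [hz.1, hz.2, m.2.mm_idM, m.2.idM_mm] at h0
  obtain ⟨a, ha, k, hk, he⟩ := m.2.plane_stab fun v hv => mv_lt_plane h0 v hv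
  have key : ∀ e : Bool, m.1 = mm (qM a) (lvl k e) → m.1 ∈ oEls := by
    intro e hme
    have hlF : stabF (lvl k e) = true := by
      cases e
      · exact stabF_kM hk
      · exact stabF_mm (stabF_kM hk) stabF_sig
    have hq : ∀ v < 64, mv (qM a) v = v := fun v hv => by
      have := List.all_eq_true.1 (List.all_eq_true.1 qM_plane_ok a (List.mem_range.2 ha)) v
        (List.mem_range.2 hv)
      exact Nat.eq_of_beq_eq_true this
    obtain ⟨h5, h10⟩ := mem_fixGrp.1 hm
    rw [hme, Cert.mv_mm, hq _ (mv_lt_plane hlF 5 (by norm_num))] at h5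
    rw [hme, Cert.mv_mm, hq _ (mv_lt_plane hlF 10 (by norm_num))] at h10
    have hs := List.all_eq_true.1 (List.all_eq_true.1 scan_ok k (List.mem_range.2 hk)) e
      (by cases e <;> simp)
    simp only [h5, h10, Nat.beq_refl, Bool.and_self, Bool.not_true, Bool.false_or,
      List.all_eq_true, List.mem_range, Bool.or_eq_true, Bool.not_eq_true', List.elem_iff] at hs
    rcases hs a ha with e' | e'
    · have := List.all_eq_true.2 (fun i hi => h' i (List.mem_range.1 hi))
      rw [hme, e'] at this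
      exact Bool.noConfusion this
    · rwa [hme]
  rcases he with e | e
  · exact key false e
  · exact key true (by rw [e, lvl, cond_true, Cert.mm_assoc])

theorem o_ok : ((List.range 16).all fun j =>
    codeOK (oCode.getD j (0, 0, 0, 0)) && decodeM (oCode.getD j (0, 0, 0, 0)) == oM j &&
    Nat.beq (mv (oM j) 5) 5 && Nat.beq (mv (oM j) 10) 10 && mm (oM j) (oM j) == idM &&
    ((List.range 5).all fun i => stabF (mm (rpI i) (mm (oM j) (rpM i)))) &&
    (List.range j).all fun k => !(oM j == oM k)) = true := by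
  decide +kernel

theorem o_len : oEls.length = 16 ∧ oM 0 = idM := by decide +kernel

theorem exists_oM {o : List ℕ} (h : o ∈ oEls) : ∃ j < 16, oM j = o := by
  obtain ⟨j, hj, e⟩ := mem_getD noMap h
  exact ⟨j, o_len.1 ▸ hj, e⟩

theorem exists_oE {j : ℕ} (hj : j < 16) : ∃ o : LGrp, o.1 = oM j ∧ o ∈ fixGrp ∧ o * o = 1 := by
  have h := List.all_eq_true.1 o_ok j (List.mem_range.2 hj)
  simp only [Bool.and_eq_true, beq_iff_eq, Nat.beq_eq] at h
  obtain ⟨⟨⟨⟨⟨⟨hc, hd⟩, h5⟩, h10⟩, hsq⟩, -⟩, -⟩ := h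
  exact ⟨⟨oM j, by rw [← hd]; exact inL_decodeM hc⟩, rfl, ⟨h5, h10⟩, LGrp.ext hsq⟩

/-- The kernel on the five planes. -/
theorem mem_normalCore {m : fixGrp} : m ∈ fixPlane.normalCore ↔ (m : LGrp).1 ∈ oEls := by
  constructor
  · intro h
    refine mem_oEls m.2 fun i => ?_
    have := h (⟨rpE i, (rpE_spec i).2.2⟩ : fixGrp)⁻¹
    rw [inv_inv, fixPlane, Subgroup.mem_subgroupOf] at this
    simpa using this
  · intro h g
    obtain ⟨j, hj, e⟩ := exists_oM h
    have ho := List.all_eq_true.1 o_ok j (List.mem_range.2 hj)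
    simp only [Bool.and_eq_true, List.all_eq_true, List.mem_range] at ho
    obtain ⟨i, hi⟩ := exists_rep (fixGrp.inv_mem g.2)
    have h2 : (rpE i)⁻¹ * (m : LGrp) * rpE i ∈ planeStab := by
      rw [mul_assoc, mem_planeStab, LGrp.val_mul, LGrp.val_mul, (rpE_spec i).2.1, (rpE_spec i).1,
        ← e]
      exact ho.1.2 i i.2
    rw [fixPlane, Subgroup.mem_subgroupOf]
    have h3 := mul_mem (mul_mem (inv_mem hi) h2) hi
    simpa [mul_assoc] using h3

theorem card_normalCore : Nat.card fixPlane.normalCore = 16 := by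
  rw [← Nat.card_fin 16]
  refine (Nat.card_eq_of_bijective (fun j : Fin 16 =>
    (⟨⟨(exists_oE j.2).choose, (exists_oE j.2).choose_spec.2.1⟩, mem_normalCore.2 (by
      rw [(exists_oE j.2).choose_spec.1, oM, List.getD_eq_getElem _ _ (by rw [o_len.1]; exact j.2)]
      exact List.getElem_mem _)⟩ : fixPlane.normalCore)) ⟨?_, ?_⟩).symm
  · intro i j e
    have e' : oM i = oM j := by
      rw [← (exists_oE i.2).choose_spec.1, ← (exists_oE j.2).choose_spec.1]
      exact congrArg (fun x : fixPlane.normalCore => ((x : fixGrp) : LGrp).1) e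
    by_contra hne
    rcases Nat.lt_or_gt_of_ne (fun e => hne (Fin.ext e)) with hl | hl
    · have := List.all_eq_true.1 o_ok j (List.mem_range.2 j.2)
      simp only [Bool.and_eq_true, List.all_eq_true, List.mem_range] at this
      simpa [e'] using this.2 i hl
    · have := List.all_eq_true.1 o_ok i (List.mem_range.2 i.2)
      simp only [Bool.and_eq_true, List.all_eq_true, List.mem_range] at this
      simpa [e'] using this.2 j hl
  · intro x
    obtain ⟨j, hj, e⟩ := exists_oM (mem_normalCore.1 x.2)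
    refine ⟨⟨j, hj⟩, Subtype.ext (Subtype.ext (LGrp.ext ?_))⟩
    exact (exists_oE hj).choose_spec.1.trans e

theorem perp_ok : (((List.range 4096).all fun v => bF v 5 || bF v 10 ||
      (List.range 16).all fun j => line.elem (mv (oM j) v ^^^ v)) &&
    (List.range 16).all fun j => (Nat.beq j 0 || (List.range 4096).any fun v =>
      !bF v 5 && !bF v 10 && !Nat.beq (mv (oM j) v) v)) = true := by
  decide +kernel

/-- The sixteen move the perpendicular space of the line within the line. -/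
theorem o_perp {o : List ℕ} (ho : o ∈ oEls) {v : ℕ} (hv : v < 4096) (h5 : bF v 5 = false)
    (h10 : bF v 10 = false) : mv o v ^^^ v ∈ line := by
  obtain ⟨j, hj, rfl⟩ := exists_oM ho
  have h := perp_ok
  simp only [Bool.and_eq_true, List.all_eq_true, List.mem_range, Bool.or_eq_true, List.elem_iff] at h
  rcases h.1 v hv with (e | e) | e
  · rw [h5] at e; exact Bool.noConfusion e
  · rw [h10] at e; exact Bool.noConfusion e
  · exact e j hj

/-- Only the trivial one fixes that space pointwise. -/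
theorem o_faithful {o : List ℕ} (ho : o ∈ oEls)
    (h : ∀ v < 4096, bF v 5 = false → bF v 10 = false → mv o v = v) : o = idM := by
  obtain ⟨j, hj, rfl⟩ := exists_oM ho
  by_contra hne
  have h' := perp_ok
  rw [Bool.and_eq_true] at h'
  have h2 := List.all_eq_true.1 h'.2 j (List.mem_range.2 hj)
  simp only [Bool.and_eq_true, Bool.or_eq_true, List.any_eq_true, List.mem_range,
    Bool.not_eq_true', Nat.beq_eq] at h2
  rcases h2 with e | ⟨v, hv, ⟨h5, h10⟩, e⟩
  · exact hne (e ▸ o_len.2)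
  · simp [h v hv h5 h10] at e

theorem conj_ok : ((List.range 16).all fun j => Nat.blt j 2 ||
    (Nat.blt (oPar.getD j (0, 0)).1 2 && Nat.blt (oPar.getD j (0, 0)).2 j &&
      Nat.blt 0 (oPar.getD j (0, 0)).2 &&
      mm (rpM (2 + (oPar.getD j (0, 0)).1)) (oM (oPar.getD j (0, 0)).2) ==
        mm (oM j) (rpM (2 + (oPar.getD j (0, 0)).1)))) = true := by
  decide +kernel

/-- The stabiliser of the line is irreducible on the sixteen. -/
theorem o_irreducible (p : LGrp → Prop) (hp : ∀ g ∈ fixGrp, ∀ o, p o → p (g * o * g⁻¹))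
    {o : LGrp} (ho : o.1 ∈ oEls) (ho1 : o ≠ 1) (hpo : p o) {o' : LGrp} (ho' : o'.1 ∈ oEls)
    (ho'1 : o' ≠ 1) : p o' := by
  have key : ∀ j, 0 < j → j < 16 → ∀ a b : LGrp, a.1 = oM j → b.1 = oM 1 → (p a ↔ p b) := by
    intro j
    induction j using Nat.strong_induction_on with
    | _ j ih =>
      intro h0 hj a b ha hb
      by_cases hj1 : j = 1
      · subst hj1; rw [LGrp.ext (ha.trans hb.symm)]
      have h := List.all_eq_true.1 conj_ok j (List.mem_range.2 hj)
      simp only [Bool.or_eq_true, Bool.and_eq_true, beq_iff_eq] at h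
      rcases h with h | ⟨⟨⟨h1, h2⟩, h3⟩, he⟩
      · exact absurd (blt_lt h) (by omega)
      obtain ⟨g, hg, -, hgF⟩ := exists_rpE (i := 2 + (oPar.getD j (0, 0)).1)
        (by have := blt_lt h1; omega)
      obtain ⟨c, hc, -, -⟩ := exists_oE (j := (oPar.getD j (0, 0)).2) (lt_trans (blt_lt h2) hj)
      have e : a * g = g * c := LGrp.ext (by rw [LGrp.val_mul, LGrp.val_mul, ha, hg, hc, he])
      rw [← ih _ (blt_lt h2) (blt_lt h3) (lt_trans (blt_lt h2) hj) c b hc hb]
      constructor
      · intro hpa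
        have := hp g⁻¹ (fixGrp.inv_mem hgF) a hpa
        rwa [inv_inv, mul_assoc, e, inv_mul_cancel_left] at this
      · intro hpc
        have := hp g hgF c hpc
        rwa [← e, mul_inv_cancel_right] at this
  obtain ⟨i, hi, ei⟩ := exists_oM ho
  obtain ⟨j, hj, ej⟩ := exists_oM ho'
  obtain ⟨b, hb, -, -⟩ := exists_oE (j := 1) (by norm_num)
  have hi0 : 0 < i := Nat.pos_of_ne_zero fun e => ho1 (LGrp.ext (by rw [← ei, e, o_len.2]; rfl))
  have hj0 : 0 < j := Nat.pos_of_ne_zero fun e => ho'1 (LGrp.ext (by rw [← ej, e, o_len.2]; rfl))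
  rw [key j hj0 hj o' b ej.symm hb, ← key i hi0 hi o b ei.symm hb]
  exact hpo

end CfsgLib.J4Type.Eight
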