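import Cfsg.Agent.Lib.J4Type.Eight.Special
import Cfsg.Agent.Lib.J4Type.Five.Results

/-!
The subgroups of order five centralising the eight: their centralisers and normalisers lie in the
normaliser of the eight, and the preimage of the sixteen has no complement there.
-/

set_option autoImplicit false
set_option linter.unusedSectionVars false
set_option maxRecDepth 100000

namespace CfsgLib.J4Type

open Cfsg Subgroup Eight

namespace Eight

theorem card_of_internal {G : Type*} [Group G] [Finite G] {S T U : Subgroup G}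
    (h : IsInternalDirectProduct S T U) : Nat.card U = Nat.card S * Nat.card T := by
  obtain ⟨h1, h2, h3, h4, h5⟩ := h
  have hn : S ≤ normalizer (T : Set G) := fun s hs => centralizer_le_normalizer _
    (mem_centralizer_iff.2 fun t ht => (h3 s hs t ht).symm)
  rw [← Nat.card_prod]
  refine (Nat.card_eq_of_bijective
    (fun x : S × T => (⟨(x.1 : G) * x.2, mul_mem (h1 x.1.2) (h2 x.2.2)⟩ : U)) ⟨?_, ?_⟩).symm
  · rintro ⟨a, b⟩ ⟨c, d⟩ e
    have e' : (a : G) * b = c * d := congrArg Subtype.val e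
    have : (c : G)⁻¹ * a ∈ S ⊓ T := ⟨S.mul_mem (S.inv_mem c.2) a.2, by
      rw [show (c : G)⁻¹ * a = d * (b : G)⁻¹ by
        rw [eq_mul_inv_iff_mul_eq, mul_assoc, e', inv_mul_cancel_left]]
      exact T.mul_mem d.2 (T.inv_mem b.2)⟩
    rw [h4, mem_bot, inv_mul_eq_one] at this
    obtain rfl : c = a := Subtype.ext this
    exact Prod.ext rfl (Subtype.ext (mul_left_cancel e'))
  · rintro ⟨u, hu⟩
    have hu' : u ∈ ((S ⊔ T : Subgroup G) : Set G) := by rw [h5]; exact hu
    rw [coe_mul_of_left_le_normalizer_right S T hn] at hu'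
    obtain ⟨a, ha, b, hb, e⟩ := Set.mem_mul.1 hu'
    exact ⟨(⟨a, ha⟩, ⟨b, hb⟩), Subtype.ext e⟩

theorem exists_fixed_in_coset {G : Type*} [Group G] [Finite G] {L : Subgroup G} {m q : G} {p : ℕ}
    [Fact p.Prime] (hq : q ^ p = 1) (hp : ¬ p ∣ Nat.card L)
    (h : ∀ l ∈ L, m⁻¹ * (q * (m * l) * q⁻¹) ∈ L) : ∃ l ∈ L, q * (m * l) = m * l * q := by
  classical
  have := Fintype.ofFinite L
  let f : L → L := fun l => ⟨m⁻¹ * (q * (m * l) * q⁻¹), h l l.2⟩
  have hinj : Function.Injective f := fun a b e => by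
    have := congrArg Subtype.val e
    simpa [f] using this
  let σ : Equiv.Perm L := Equiv.ofBijective f (Finite.injective_iff_bijective.1 hinj)
  have hpow : ∀ (n : ℕ) (l : L), ((σ ^ n) l : G) = m⁻¹ * (q ^ n * (m * l) * (q ^ n)⁻¹) := by
    intro n
    induction n with
    | zero => intro l; simp
    | succ n ih =>
      intro l
      rw [pow_succ', Equiv.Perm.mul_apply]
      show m⁻¹ * (q * (m * ((σ ^ n) l : G)) * q⁻¹) = _
      rw [ih, pow_succ']
      group
  have hσ : σ ^ p ^ 1 = 1 := Equiv.ext fun l => Subtype.ext (by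
    rw [pow_one, hpow, hq]; simp)
  obtain ⟨l, hl⟩ := Equiv.Perm.exists_fixed_point_of_prime
    (by rwa [← Nat.card_eq_fintype_card]) hσ
  refine ⟨l, l.2, ?_⟩
  have e : m⁻¹ * (q * (m * l) * q⁻¹) = (l : G) := congrArg Subtype.val hl
  rw [inv_mul_eq_iff_eq_mul] at e
  exact mul_inv_eq_iff_eq_mul.1 e

end Eight

variable {G : Type*} [Group G] [Finite G] {z : G} {P : Subgroup G}

namespace Frame

variable {F : Frame z P} (D : VData F)
include D

/-- The kernel of the action on the five conjugates of `V`. -/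
noncomputable def kerA : Subgroup G :=
  (psiA D).ker.map (normalizer (Aei D : Set G)).subtype

theorem mem_kerA {g : G} :
    g ∈ kerA D ↔ ∃ h : g ∈ normalizer (Aei D : Set G), psiA D ⟨g, h⟩ = 1 := by
  constructor
  · rintro ⟨⟨g, hg⟩, h, rfl⟩; exact ⟨hg, h⟩
  · rintro ⟨h, e⟩; exact ⟨⟨g, h⟩, e, rfl⟩

theorem kerA_le : kerA D ≤ normalizer (Aei D : Set G) := map_subtype_le _

variable (hf : Fused D)
include hf

theorem Lei_le_kerA : Lei D ≤ kerA D := fun g hg =>
  (mem_kerA D).2 ⟨centAei_le_norm D (Lei_le D hg),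
    (psiA_eq_one D hf (Lei_le D hg)).2 hg⟩

theorem kerA_inf_cent {g : G} (hg : g ∈ kerA D) (hc : g ∈ centralizer (Aei D : Set G)) :
    g ∈ Lei D := by
  obtain ⟨h, e⟩ := (mem_kerA D).1 hg
  exact (psiA_eq_one D hf (c := ⟨g, h⟩) hc).1 e

theorem card_kerA : Nat.card (kerA D) = 2 ^ 15 * 168 := by
  rw [kerA, Subgroup.card_map_of_injective (Subgroup.subtype_injective _)]
  have h := (psiA D).ker.card_mul_index
  have hs : Function.Surjective (psiA D) := fun π => by
    obtain ⟨c, -, hc⟩ := psiA_surjective_cent D hf π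
    exact ⟨c, hc⟩
  rw [index_ker, MonoidHom.range_eq_top.2 hs, Subgroup.card_top, card_permVA D hf,
    card_normAei D hf] at h
  omega

/-- An element whose commutators with the coset lie in the kernel of both actions fixes a point of
the coset. -/
theorem exists_fixed_lift {q : G} (hqn : q ∈ normalizer (Aei D : Set G)) {p : ℕ} [Fact p.Prime]
    (hq : q ^ p = 1) (hp : p ≠ 2) {m : G} (hm : m ∈ normalizer (Aei D : Set G))
    (hψ : Commute (psiA D ⟨q, hqn⟩) (psiA D ⟨m, hm⟩))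
    (hρ : Commute (rhoA D ⟨q, hqn⟩) (rhoA D ⟨m, hm⟩)) :
    ∃ l ∈ Lei D, q * (m * l) = m * l * q := by
  refine exists_fixed_in_coset hq ?_ ?_
  · rw [card_Lei]
    intro h
    exact hp ((Nat.prime_dvd_prime_iff_eq Fact.out Nat.prime_two).1
      ((Fact.out : p.Prime).dvd_of_dvd_pow h))
  · intro l hl
    have hln : l ∈ normalizer (Aei D : Set G) := centAei_le_norm D (Lei_le D hl)
    set x : ↥(normalizer (Aei D : Set G)) :=
      ⟨m, hm⟩⁻¹ * (⟨q, hqn⟩ * (⟨m, hm⟩ * ⟨l, hln⟩) * ⟨q, hqn⟩⁻¹) with hx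
    have hk : x ∈ (pairA D).ker := by
      have h2 : (⟨l, hln⟩ : ↥(normalizer (Aei D : Set G))) ∈ (pairA D).ker := by
        rw [pairA_ker D hf, mem_subgroupOf]; exact hl
      have e1 : psiA D ⟨l, hln⟩ = 1 := congrArg Prod.fst (MonoidHom.mem_ker.1 h2)
      have e2 : rhoA D ⟨l, hln⟩ = 1 := congrArg Prod.snd (MonoidHom.mem_ker.1 h2)
      rw [MonoidHom.mem_ker]
      refine Prod.ext ?_ ?_
      · show psiA D x = 1
        rw [hx, map_mul, map_mul, map_mul, map_mul, map_inv, map_inv, e1, mul_one, hψ.eq,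
          mul_inv_cancel_right, inv_mul_cancel]
      · show rhoA D x = 1
        rw [hx, map_mul, map_mul, map_mul, map_mul, map_inv, map_inv, e2, mul_one, hρ.eq,
          mul_inv_cancel_right, inv_mul_cancel]
    rw [pairA_ker D hf, mem_subgroupOf] at hk
    exact hk

/-- A normal subgroup of two-power order of the automorphisms of the eight is trivial. -/
theorem aut_no_two {I : Subgroup (MulAut ↥(Aei D))} [I.Normal] (hI : IsPGroup 2 I) : I = ⊥ := by
  have : Fact (Nat.Prime 2) := ⟨Nat.prime_two⟩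
  obtain ⟨a, ha, ha1⟩ := hI.exists_fixed_point_of_prime_dvd_card_of_fixed_point ↥(Aei D)
    (by rw [card_Aei D]; norm_num) (a := 1) (fun i => smul_one i)
  obtain ⟨K2, -, hA, -, -, htr⟩ := exists_levi_eight D hf
  refine (eq_bot_iff_forall I).2 fun i hi => MulEquiv.ext fun b => ?_
  by_cases hb : b = 1
  · rw [hb, map_one, map_one]
  obtain ⟨k, hk, e⟩ := htr a a.2 (fun e => ha1 (Subtype.ext e.symm))
  obtain ⟨l, hl, el⟩ := htr b b.2 (fun e => hb (Subtype.ext e))
  set α := rhoA D ⟨l * k⁻¹, mul_mem (hA hl) (inv_mem (hA hk))⟩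
  have hα : α a = b := Subtype.ext (by
    rw [rhoA_apply]
    show l * k⁻¹ * a * (l * k⁻¹)⁻¹ = b
    rw [← e, ← el]; group)
  have h1 : α⁻¹ * i * α⁻¹⁻¹ ∈ I := Normal.conj_mem inferInstance i hi α⁻¹
  have h2 : (α⁻¹ * i * α⁻¹⁻¹) a = a := ha ⟨_, h1⟩
  rw [inv_inv, MulAut.mul_apply, MulAut.mul_apply, hα] at h2
  have := congrArg α h2
  rw [MulAut.apply_inv_self, hα] at this
  exact this

section five

variable {q : G} (hq : orderOf q = 5) (hqc : q ∈ centralizer (Aei D : Set G))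
include hq hqc

theorem five_data : ¬ 25 ∣ Nat.card G ∧
    Nat.card ↥(centralizer (zpowers q : Set G)) = 6720 ∧
    ∃ J : Subgroup G, IsInternalDirectProduct (zpowers q) J (centralizer (zpowers q : Set G)) ∧
      Nat.card J = 1344 ∧
      ∃ (E : Subgroup ↥J) (_ : E.Normal), Nat.card ↥E = 8 ∧ ∀ K : Subgroup ↥J, ¬ E.IsComplement' K := by
  obtain ⟨h1, ⟨J, hJ, E, hE, -, hE8, ⟨e⟩, hno⟩, -, -⟩ := Five.five F D hf (zpowers q)
    (by rw [Nat.card_zpowers, hq]) (zpowers_le.2 (centAei_le D hqc))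
  have hJc : Nat.card J = 1344 := by
    have := E.card_mul_index
    rw [hE8, index_eq_card, Nat.card_congr (e.trans glSL.symm).toEquiv,
      Recog.QSThree.gl_psl.1] at this
    omega
  refine ⟨h1, ?_, J, hJ, hJc, E, hE, hE8, hno⟩
  rw [card_of_internal hJ, Nat.card_zpowers, hq, hJc]

/-- The part of the centraliser in the kernel. -/
theorem five_cent : centralizer (zpowers q : Set G) ≤ normalizer (Aei D : Set G) ∧
    Nat.card ↥(kerA D ⊓ centralizer (zpowers q : Set G)) = 1344 ∧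
    zpowers q ⊔ (kerA D ⊓ centralizer (zpowers q : Set G)) = centralizer (zpowers q : Set G) ∧
    (∀ x ∈ kerA D ⊓ centralizer (zpowers q : Set G), x ∈ centralizer (Aei D : Set G) → x ∈ Aei D) ∧
    ∀ α, ∃ m : ↥(normalizer (Aei D : Set G)), (m : G) ∈ centralizer (zpowers q : Set G) ∧
      rhoA D m = α := by
  obtain ⟨-, hC, -⟩ := five_data D hf hq hqc
  have : Fact (Nat.Prime 5) := ⟨by norm_num⟩
  have hqn := centAei_le_norm D hqc
  have hρq : rhoA D ⟨q, hqn⟩ = 1 := (rhoA_eq_one D).2 hqc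
  set C5 := kerA D ⊓ centralizer (zpowers q : Set G) with hC5
  have hcomm : ∀ x, q * x = x * q → x ∈ centralizer (zpowers q : Set G) := fun x hx => by
    refine mem_centralizer_iff.2 fun y hy => ?_
    obtain ⟨k, rfl⟩ := mem_zpowers_iff.1 hy
    exact ((show Commute x q from hx.symm).zpow_right k).eq.symm
  have hsur : ∀ α, ∃ m : ↥(normalizer (Aei D : Set G)), (m : G) ∈ C5 ∧ rhoA D m = α := by
    intro α
    obtain ⟨m, hm⟩ := pairA_surjective D hf (1, α)
    have hψ : psiA D m = 1 := congrArg Prod.fst hm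
    have hρ : rhoA D m = α := congrArg Prod.snd hm
    obtain ⟨l, hl, e⟩ := exists_fixed_lift D hf hqn (p := 5)
      (by rw [← hq]; exact pow_orderOf_eq_one q) (by norm_num) m.2
      (by rw [show (⟨(m : G), m.2⟩ : ↥(normalizer (Aei D : Set G))) = m from rfl, hψ]
          exact Commute.one_right _)
      (by rw [hρq]; exact Commute.one_left _)
    refine ⟨m * ⟨l, centAei_le_norm D (Lei_le D hl)⟩, ⟨?_, hcomm _ e⟩, ?_⟩
    · exact mul_mem ((mem_kerA D).2 ⟨m.2, hψ⟩) (Lei_le_kerA D hf hl)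
    · rw [map_mul, hρ, (rhoA_eq_one D).2 (Lei_le D hl), mul_one]
  let f : ↥C5 →* MulAut ↥(Aei D) :=
    (rhoA D).comp (Subgroup.inclusion (inf_le_left.trans (kerA_le D)))
  have hfs : Function.Surjective f := fun α => by
    obtain ⟨m, hm, e⟩ := hsur α
    exact ⟨⟨m, hm⟩, e⟩
  have hA5 : Aei D ≤ C5 := fun a ha => ⟨Lei_le_kerA D hf (Aei_le_Lei D ha),
    hcomm a (cent_comm D hqc ha)⟩
  have hfk : (Aei D).subgroupOf C5 ≤ f.ker := fun x hx =>
    (rhoA_eq_one D).2 (Aei_le_cent D hx)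
  have h := f.ker.card_mul_index
  rw [index_ker, MonoidHom.range_eq_top.2 hfs, Subgroup.card_top, card_autAei D] at h
  have hle := Subgroup.card_le_of_le hfk
  rw [Nat.card_congr (subgroupOfEquivOfLe hA5).toEquiv, card_Aei D] at hle
  set T := zpowers q ⊔ C5
  have hT : T ≤ centralizer (zpowers q : Set G) :=
    sup_le (zpowers_le.2 (hcomm q rfl)) inf_le_right
  have d5 : 5 ∣ Nat.card T := by
    rw [← hq, ← Nat.card_zpowers]; exact card_dvd_of_le le_sup_left
  have dC : Nat.card C5 ∣ Nat.card T := card_dvd_of_le le_sup_right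
  have dK : Nat.card C5 ∣ 2 ^ 15 * 168 := card_kerA D hf ▸ card_dvd_of_le inf_le_left
  have hcop : Nat.Coprime 5 (Nat.card C5) :=
    ((Nat.Prime.coprime_iff_not_dvd (by norm_num)).2 fun h5 => by
      have := h5.trans dK; norm_num at this)
  have hprod := (hcop.mul_dvd_of_dvd_of_dvd d5 dC).trans (hC ▸ card_dvd_of_le hT)
  have hC5c : Nat.card C5 = 1344 := by
    have := Nat.le_of_dvd (by norm_num) hprod
    have h168 : 1344 ≤ Nat.card C5 := by rw [← h]; omega
    omega
  have hTeq : T = centralizer (zpowers q : Set G) := by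
    refine eq_of_le_of_card_ge hT ?_
    rw [hC]
    exact Nat.le_of_dvd Nat.card_pos (by
      rw [show (6720 : ℕ) = 5 * 1344 by norm_num, ← hC5c]
      exact hcop.mul_dvd_of_dvd_of_dvd d5 dC)
  refine ⟨?_, hC5c, hTeq, ?_, fun α => ?_⟩
  · rw [← hTeq]; exact sup_le (zpowers_le.2 hqn) (inf_le_left.trans (kerA_le D))
  · intro x hx hxc
    have hk : (⟨x, hx⟩ : ↥C5) ∈ f.ker := (rhoA_eq_one D).2 hxc
    have : (Aei D).subgroupOf C5 = f.ker := by
      refine eq_of_le_of_card_ge hfk ?_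
      rw [Nat.card_congr (subgroupOfEquivOfLe hA5).toEquiv, card_Aei D]
      omega
    rw [← this] at hk
    exact hk
  · obtain ⟨m, hm, e⟩ := hsur α
    exact ⟨m, hm.2, e⟩

/-- The only subgroup of order eight normalised by the centraliser. -/
theorem five_unique {B : Subgroup G} (hB : B ≤ centralizer (zpowers q : Set G))
    (hc : Nat.card B = 8)
    (hn : ∀ c ∈ centralizer (zpowers q : Set G), ∀ b ∈ B, c * b * c⁻¹ ∈ B) : B = Aei D := by
  obtain ⟨hle, -, hsup, hint, hsur⟩ := five_cent D hf hq hqc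
  set N := normalizer (Aei D : Set G)
  set I := (B.subgroupOf N).map (rhoA D) with hI
  have : I.Normal := ⟨fun i hi α => by
    obtain ⟨b, hb, rfl⟩ := hi
    obtain ⟨m, hm, rfl⟩ := hsur α
    exact ⟨m * b * m⁻¹, hn _ hm _ hb, by rw [map_mul, map_mul, map_inv]⟩⟩
  have hB2 : IsPGroup 2 (B.subgroupOf N) := by
    have : Fact (Nat.Prime 2) := ⟨Nat.prime_two⟩
    refine IsPGroup.of_card (n := 3) ?_
    rw [Nat.card_congr (subgroupOfEquivOfLe (hB.trans hle)).toEquiv, hc]
    norm_num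
  have hbot := aut_no_two D hf (hB2.map (rhoA D))
  refine eq_of_le_of_card_ge (fun b hb => ?_) (by rw [hc, card_Aei D])
  have hbC : b ∈ centralizer (Aei D : Set G) := by
    have : rhoA D ⟨b, hle (hB hb)⟩ ∈ I := ⟨_, hb, rfl⟩
    rw [hI, hbot, mem_bot] at this
    exact (rhoA_eq_one D).1 this
  have hb' : b ∈ ((zpowers q ⊔ (kerA D ⊓ centralizer (zpowers q : Set G)) : Subgroup G) : Set G) := by
    rw [hsup]; exact hB hb
  have hnor : kerA D ⊓ centralizer (zpowers q : Set G) ≤ normalizer (zpowers q : Set G) :=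
    inf_le_right.trans (centralizer_le_normalizer _)
  rw [coe_mul_of_right_le_normalizer_left _ _ hnor] at hb'
  obtain ⟨a, ha, y, hy, e⟩ := Set.mem_mul.1 hb'
  have hac : a ∈ centralizer (Aei D : Set G) := (zpowers_le.2 hqc) ha
  have hya : y ∈ Aei D := hint y hy (by
    rw [show y = a⁻¹ * b by rw [← e, inv_mul_cancel_left]]
    exact mul_mem (inv_mem hac) hbC)
  have hcm : Commute a y := cent_comm D hac hya
  have h8 : b ^ 8 = 1 := by
    have := pow_card_eq_one' (x := (⟨b, hb⟩ : B))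
    rw [hc] at this
    exact congrArg Subtype.val this
  rw [← e, hcm.mul_pow, show y ^ 8 = (y * y) ^ 4 by rw [← pow_two, ← pow_mul], Aei_sq D hya,
    one_pow, mul_one] at h8
  have ha5 : a ^ 5 = 1 := by
    obtain ⟨k, rfl⟩ := mem_zpowers_iff.1 ha
    rw [← zpow_natCast, ← zpow_mul, mul_comm, zpow_mul, zpow_natCast, ← hq, pow_orderOf_eq_one,
      one_zpow]
  have ha1 : a = 1 := by
    have h1 := Nat.dvd_gcd (orderOf_dvd_of_pow_eq_one h8) (orderOf_dvd_of_pow_eq_one ha5)
    exact orderOf_eq_one_iff.1 (Nat.dvd_one.1 h1)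
  rw [← e, ha1, one_mul]
  exact hya

theorem five_norm : normalizer (zpowers q : Set G) ≤ normalizer (Aei D : Set G) := by
  intro n hn
  have hconj : ∀ g ∈ normalizer (zpowers q : Set G), ∀ x ∈ centralizer (zpowers q : Set G),
      g * x * g⁻¹ ∈ centralizer (zpowers q : Set G) := by
    intro g hg x hx
    refine mem_centralizer_iff.2 fun y hy => ?_
    have hy' := (mem_normalizer_iff.1 (inv_mem hg) y).1 hy
    rw [inv_inv] at hy'
    have := mem_centralizer_iff.1 hx _ hy'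
    calc y * (g * x * g⁻¹) = g * (g⁻¹ * y * g * x) * g⁻¹ := by group
      _ = g * (x * (g⁻¹ * y * g)) * g⁻¹ := by rw [this]
      _ = _ := by group
  have hA : ∀ a ∈ Aei D, a ∈ centralizer (zpowers q : Set G) := fun a ha =>
    mem_centralizer_iff.2 fun y hy => cent_comm D ((zpowers_le.2 hqc) hy) ha
  have key := five_unique D hf hq hqc (B := (Aei D).map (MulAut.conj n).toMonoidHom)
    (by rintro _ ⟨a, ha, rfl⟩; exact hconj n hn a (hA a ha))
    (by rw [Subgroup.card_map_of_injective (MulAut.conj n).injective, card_Aei D])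
    (by
      rintro c hc _ ⟨a, ha, rfl⟩
      have hc' : n⁻¹ * c * n ∈ centralizer (zpowers q : Set G) := by
        simpa using hconj n⁻¹ (inv_mem hn) c hc
      refine ⟨n⁻¹ * c * n * a * (n⁻¹ * c * n)⁻¹,
        (mem_normalizer_iff.1 ((five_cent D hf hq hqc).1 hc') a).1 ha, ?_⟩
      show n * _ * n⁻¹ = c * (n * a * n⁻¹) * c⁻¹
      group)
  refine mem_normalizer_iff.2 fun a => ⟨fun ha => key ▸ ⟨a, ha, rfl⟩, fun h => ?_⟩
  rw [← key] at h
  obtain ⟨b, hb, e⟩ := h
  exact (MulAut.conj n).injective e ▸ hb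

end five

/-- The preimage of the sixteen has no complement in the normaliser of the eight. -/
theorem no_complement {K : Subgroup G} (hK : K ≤ normalizer (Aei D : Set G))
    (hd : K ⊓ Lei D = ⊥) (hc : Nat.card K = 120 * 168) : False := by
  have : Fact (Nat.Prime 5) := ⟨by norm_num⟩
  obtain ⟨⟨q, hqK⟩, hq'⟩ := exists_prime_orderOf_dvd_card' (G := K) 5 (by rw [hc]; norm_num)
  have hq : orderOf q = 5 := by rwa [Subgroup.orderOf_mk] at hq'
  have hρq : rhoA D ⟨q, hK hqK⟩ = 1 := by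
    refine orderOf_eq_one_iff.1 (Nat.dvd_one.1 ?_)
    have h1 : orderOf (rhoA D ⟨q, hK hqK⟩) ∣ 5 :=
      (orderOf_map_dvd _ _).trans (by rw [Subgroup.orderOf_mk, hq])
    have h2 := orderOf_dvd_natCard (rhoA D ⟨q, hK hqK⟩)
    rw [card_autAei D] at h2
    exact Nat.dvd_gcd h1 h2
  have hqc : q ∈ centralizer (Aei D : Set G) := (rhoA_eq_one D).1 hρq
  obtain ⟨hle, hC5c, hsup, hint, -⟩ := five_cent D hf hq hqc
  obtain ⟨-, -, J, hJ, hJc, E, hE, hE8, hno⟩ := five_data D hf hq hqc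
  set C5 := kerA D ⊓ centralizer (zpowers q : Set G)
  -- the part of the complement in the kernel centralises `q`
  have hH : K ⊓ kerA D ≤ C5 := by
    rintro h ⟨hhK, hhk⟩
    refine ⟨hhk, ?_⟩
    obtain ⟨hn, hψ⟩ := (mem_kerA D).1 hhk
    set x : ↥(normalizer (Aei D : Set G)) :=
      ⟨h, hn⟩ * ⟨q, hK hqK⟩ * ⟨h, hn⟩⁻¹ * ⟨q, hK hqK⟩⁻¹ with hx
    have hk : x ∈ (pairA D).ker := by
      rw [MonoidHom.mem_ker]
      refine Prod.ext ?_ ?_
      · show psiA D x = 1
        rw [hx, map_mul, map_mul, map_mul, map_inv, map_inv, hψ, one_mul, inv_one, mul_one,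
          mul_inv_cancel]
      · show rhoA D x = 1
        rw [hx, map_mul, map_mul, map_mul, map_inv, map_inv, hρq, mul_one, mul_inv_cancel,
          one_mul, inv_one]
    rw [pairA_ker D hf, mem_subgroupOf] at hk
    have h1 : h * q * h⁻¹ * q⁻¹ ∈ K ⊓ Lei D :=
      ⟨K.mul_mem (K.mul_mem (K.mul_mem hhK hqK) (K.inv_mem hhK)) (K.inv_mem hqK), hk⟩
    rw [hd, mem_bot, mul_inv_eq_one, mul_inv_eq_iff_eq_mul] at h1
    refine mem_centralizer_iff.2 fun y hy => ?_
    obtain ⟨k, rfl⟩ := mem_zpowers_iff.1 hy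
    exact ((show Commute h q from h1).zpow_right k).eq.symm
  have hHc : 168 ≤ Nat.card ↥(K ⊓ kerA D : Subgroup G) := by
    let g : ↥K →* _ := (pairA D).comp (Subgroup.inclusion hK)
    have hgi : Function.Injective g := (injective_iff_map_eq_one _).2 fun x hx => by
      have h1 : Subgroup.inclusion hK x ∈ (pairA D).ker := hx
      rw [pairA_ker D hf, mem_subgroupOf] at h1
      have h2 : (x : G) ∈ K ⊓ Lei D := ⟨x.2, h1⟩
      rw [hd, mem_bot] at h2
      exact Subtype.ext h2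
    have hgb := hgi.bijective_of_nat_card_le (by
      rw [Nat.card_prod, card_permVA D hf, card_autAei D, hc])
    have hpre : ∀ α, ∃ k : ↥(K ⊓ kerA D : Subgroup G),
        rhoA D ⟨k, hK k.2.1⟩ = α := fun α => by
      obtain ⟨k, hk⟩ := hgb.2 (1, α)
      exact ⟨⟨k, k.2, (mem_kerA D).2 ⟨hK k.2, congrArg Prod.fst hk⟩⟩, congrArg Prod.snd hk⟩
    rw [← card_autAei D]
    exact Nat.card_le_card_of_surjective _ hpre
  -- the direct factor is that part of the centraliser
  have hC5J : C5 ≤ J := by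
    intro x hx
    have hx' : x ∈ ((zpowers q ⊔ J : Subgroup G) : Set G) := by rw [hJ.2.2.2.2]; exact hx.2
    have hnq : J ≤ normalizer (zpowers q : Set G) := fun j hj => centralizer_le_normalizer _
      (mem_centralizer_iff.2 fun t ht => hJ.2.2.1 t ht j hj)
    rw [coe_mul_of_right_le_normalizer_left _ _ hnq] at hx'
    obtain ⟨a, ha, j, hj, e⟩ := Set.mem_mul.1 hx'
    have h1 : x ^ 1344 = 1 := by
      have := pow_card_eq_one' (x := (⟨x, hx⟩ : C5))
      rw [hC5c] at this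
      exact congrArg Subtype.val this
    have h2 : j ^ 1344 = 1 := by
      have := pow_card_eq_one' (x := (⟨j, hj⟩ : J))
      rw [hJc] at this
      exact congrArg Subtype.val this
    rw [← e, (show Commute a j from hJ.2.2.1 a ha j hj).mul_pow, h2, mul_one] at h1
    have ha5 : a ^ 5 = 1 := by
      obtain ⟨k, rfl⟩ := mem_zpowers_iff.1 ha
      rw [← zpow_natCast, ← zpow_mul, mul_comm, zpow_mul, zpow_natCast, ← hq, pow_orderOf_eq_one,
        one_zpow]
    have ha1 : a = 1 := by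
      have := Nat.dvd_gcd (orderOf_dvd_of_pow_eq_one h1) (orderOf_dvd_of_pow_eq_one ha5)
      exact orderOf_eq_one_iff.1 (Nat.dvd_one.1 this)
    rw [← e, ha1, one_mul]
    exact hj
  have hEA : E.map J.subtype = Aei D := by
    refine five_unique D hf hq hqc ((map_subtype_le E).trans hJ.2.1)
      (by rw [Subgroup.card_map_of_injective J.subtype_injective, hE8]) ?_
    intro c hc b hb
    obtain ⟨⟨b, hbJ⟩, hbE, rfl⟩ := hb
    have hc' : c ∈ ((zpowers q ⊔ J : Subgroup G) : Set G) := by rw [hJ.2.2.2.2]; exact hc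
    have hnq : J ≤ normalizer (zpowers q : Set G) := fun j hj => centralizer_le_normalizer _
      (mem_centralizer_iff.2 fun t ht => hJ.2.2.1 t ht j hj)
    rw [coe_mul_of_right_le_normalizer_left _ _ hnq] at hc'
    obtain ⟨a, ha, j, hj, rfl⟩ := Set.mem_mul.1 hc'
    refine ⟨⟨j, hj⟩ * ⟨b, hbJ⟩ * ⟨j, hj⟩⁻¹, hE.conj_mem _ hbE _, ?_⟩
    show j * b * j⁻¹ = a * j * b * (a * j)⁻¹
    have := hJ.2.2.1 a ha _ (mul_mem (mul_mem hj hbJ) (inv_mem hj))
    calc j * b * j⁻¹ = a * (j * b * j⁻¹) * a⁻¹ := by rw [this, mul_inv_cancel_right]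
      _ = a * j * b * (a * j)⁻¹ := by group
  have hHJ : K ⊓ kerA D ≤ J := hH.trans hC5J
  refine hno ((K ⊓ kerA D).subgroupOf J) (isComplement'_of_card_mul_and_disjoint ?_ ?_)
  · have hdis : Disjoint E ((K ⊓ kerA D).subgroupOf J) := disjoint_iff_inf_le.2 fun x hx => by
      have h1 : (x : G) ∈ Lei D := Aei_le_Lei D (hEA ▸ ⟨x, hx.1, rfl⟩)
      have h2 : (x : G) ∈ K ⊓ Lei D := ⟨hx.2.1, h1⟩
      rw [hd, mem_bot] at h2
      exact Subtype.ext h2
    have h3 := Nat.card_congr (subgroupOfEquivOfLe hHJ).toEquiv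
    have h4 : Nat.card E * Nat.card ↥((K ⊓ kerA D).subgroupOf J) ≤ Nat.card J := by
      rw [← Nat.card_prod]
      refine Nat.card_le_card_of_injective (fun p => (p.1 : ↥J) * p.2) ?_
      exact Subgroup.mul_injective_of_disjoint hdis
    rw [hE8, h3, hJc] at h4
    rw [hE8, h3, hJc]
    omega
  · exact disjoint_iff_inf_le.2 fun x hx => by
      have h1 : (x : G) ∈ Lei D := Aei_le_Lei D (hEA ▸ ⟨x, hx.1, rfl⟩)
      have h2 : (x : G) ∈ K ⊓ Lei D := ⟨hx.2.1, h1⟩
      rw [hd, mem_bot] at h2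
      exact Subtype.ext h2

end Frame

end CfsgLib.J4Type
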