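import Cfsg.Agent.Lib.J4Type.Eight.Main
import Cfsg.Agent.Lib.J4Type.Seven.Results

/-!
The local facts on the subgroups of order seven, from the analysis of the centraliser of `z`.
-/

set_option autoImplicit false
set_option linter.unusedSectionVars false

namespace CfsgLib.J4Type

open Cfsg Subgroup Eight

variable {G : Type*} [Group G] [Finite G] {z : G} {P : Subgroup G}

namespace Frame

variable {F : Frame z P} (D : VData F) (hf : Fused D)
include hf

theorem localSeven : LocalSeven z := by
  have hkey : ∀ S : Subgroup G, Nat.card S = 7 → S ≤ Cen z →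
      Nat.card ↥(centralizer (S : Set G)) = 840 ∧ Nat.card ↥(normalizer (S : Set G)) = 2520 := by
    intro S hS hSz
    obtain ⟨-, ⟨I, hI, ⟨e⟩⟩, hN, hN'⟩ := Seven.seven F D hf S hS hSz
    have hC : Nat.card ↥(centralizer (S : Set G)) = 840 := by
      rw [card_of_internal hI, hS, Nat.card_congr e.toEquiv, Nat.card_perm, Nat.card_fin]
      rfl
    exact ⟨hC, by rw [hN']; norm_num⟩
  obtain ⟨S0, h0, h0z⟩ := exists_seven_cen D
  exact ⟨(Seven.seven F D hf S0 h0 h0z).1, fun S a b => (hkey S a b).1,
    fun S a b => (hkey S a b).2⟩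

end Frame

end CfsgLib.J4Type
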