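import Cfsg.Agent.Lib.J4Type.Eight.Seven

/-!
The conclusion on the special group of order `2 ^ 15`.
-/

set_option autoImplicit false
set_option linter.unusedSectionVars false
set_option maxRecDepth 100000

namespace CfsgLib.J4Type

open Cfsg Subgroup Eight

variable {G : Type*} [Group G] [Finite G] {z : G} {P : Subgroup G}

namespace Frame

variable {F : Frame z P} (D : VData F) (hf : Fused D) (h7 : LocalSeven z)
include hf h7

theorem pentad_two_local :
    ∃ L : Subgroup G, Cfsg.IsSpecial 2 ↥L ∧ Nat.card ↥L = 2 ^ 15 ∧ Nat.card ↥(Subgroup.center ↥L) = 8 ∧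
    Nonempty (↥(normalizer (L : Set G)) ⧸ L.subgroupOf (normalizer (L : Set G)) ≃*
      Equiv.Perm (Fin 5) × Matrix.SpecialLinearGroup (Fin 3) (ZMod 2)) ∧
    (∀ K : Subgroup ↥(normalizer (L : Set G)),
      ¬ (L.subgroupOf (normalizer (L : Set G))).IsComplement' K) ∧
    (∃ K₁ : Subgroup G, K₁ ≤ normalizer (L : Set G) ∧ Nonempty (↥K₁ ≃* Equiv.Perm (Fin 5))) ∧
    (∃ K₂ : Subgroup G, K₂ ≤ normalizer (L : Set G) ∧
      Nonempty (↥K₂ ≃* Matrix.SpecialLinearGroup (Fin 3) (ZMod 2))) ∧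
    (∃ Q : Sylow 5 G, normalizer ((Q : Subgroup G) : Set G) ≤ normalizer (L : Set G)) ∧
    (∃ S : Sylow 7 G, normalizer ((S : Subgroup G) : Set G) ≤ normalizer (L : Set G)) := by
  obtain ⟨eA⟩ := exists_autEquiv D
  have hN := normLei_eq D hf
  refine ⟨Lei D, isSpecial_Lei D hf, card_Lei D, card_center_Lei D hf, ?_⟩
  obtain ⟨s, hs, hsN, X, hX, hXe⟩ := seven_local D hf h7
  refine ⟨?_, ?_, ⟨X, hN ▸ hX, hXe⟩, ?_, ?_, ?_⟩
  · have e5 : ↥(normalizer (Aei D : Set G)) ⧸ normVA D ≃ Fin 5 :=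
      Finite.equivFinOfCardEq (by rw [← index_eq_card, index_normVA D hf])
    let f := (pairA D).comp (Subgroup.inclusion hN.le)
    have hker : f.ker = (Lei D).subgroupOf (normalizer (Lei D : Set G)) := by
      ext x
      show Subgroup.inclusion hN.le x ∈ (pairA D).ker ↔ _
      rw [pairA_ker D hf, mem_subgroupOf, mem_subgroupOf]
      rfl
    have hsur : Function.Surjective f := fun y => by
      obtain ⟨m, hm⟩ := pairA_surjective D hf y
      exact ⟨⟨m, hN.ge m.2⟩, hm⟩
    exact ⟨(QuotientGroup.quotientMulEquivOfEq hker.symm).trans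
      ((QuotientGroup.quotientKerEquivOfSurjective f hsur).trans
        ((Equiv.permCongrHom e5).prodCongr eA))⟩
  · intro K hK
    refine no_complement D hf (K := K.map (normalizer (Lei D : Set G)).subtype) ((map_subtype_le K).trans hN.le)
      ?_ ?_
    · rw [eq_bot_iff]
      rintro _ ⟨⟨x, hxK, rfl⟩, hxL⟩
      have := hK.disjoint.le_bot
        (⟨mem_subgroupOf.2 hxL, hxK⟩ : x ∈ (Lei D).subgroupOf _ ⊓ K)
      rw [mem_bot] at this
      rw [this]; exact one_mem _
    · rw [Subgroup.card_map_of_injective (Subgroup.subtype_injective _)]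
      have := hK.card_mul_card
      rw [Nat.card_congr (subgroupOfEquivOfLe (le_normalizer : Lei D ≤ _)).toEquiv, card_Lei] at this
      have hc : Nat.card ↥(normalizer (Lei D : Set G)) = 2 ^ 15 * (120 * 168) :=
        (congrArg (fun H : Subgroup G => Nat.card H) hN).trans (card_normAei D hf)
      omega
  · obtain ⟨K2, -, hA, hc, hdis, -⟩ := exists_levi_eight D hf
    let f : ↥K2 →* MulAut ↥(Aei D) := (rhoA D).comp (Subgroup.inclusion hA)
    have hi : Function.Injective f := (injective_iff_map_eq_one _).2 fun x hx => by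
      have : (x : G) ∈ K2 ⊓ centralizer (Aei D : Set G) := ⟨x.2, (rhoA_eq_one D).1 hx⟩
      rw [hdis, mem_bot] at this
      exact Subtype.ext this
    have hb := hi.bijective_of_nat_card_le (by rw [card_autAei D, hc])
    exact ⟨K2, hA.trans hN.ge, ⟨(MulEquiv.ofBijective f hb).trans eA⟩⟩
  · have : Fact (Nat.Prime 5) := ⟨by norm_num⟩
    obtain ⟨⟨q, hqc⟩, hq'⟩ := exists_prime_orderOf_dvd_card'
      (G := ↥(centralizer (Aei D : Set G))) 5 (by rw [card_centAei D]; norm_num)
    have hq : orderOf q = 5 := by rwa [Subgroup.orderOf_mk] at hq'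
    obtain ⟨h25, -⟩ := five_data D hf hq hqc
    obtain ⟨Q, hQ⟩ := sylow_of_card (p := 5) h25 (S := zpowers q) (by rw [Nat.card_zpowers, hq])
    exact ⟨Q, by rw [hQ, hN]; exact five_norm D hf hq hqc⟩
  · have : Fact (Nat.Prime 7) := ⟨by norm_num⟩
    obtain ⟨S, hS⟩ := sylow_of_card (p := 7) h7.not_dvd (S := zpowers s)
      (by rw [Nat.card_zpowers, hs])
    exact ⟨S, by rw [hS, hN]; exact hsN⟩

end Frame

end CfsgLib.J4Type
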