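import Cfsg.Agent.Lib.J4Type.Eight.Basic
import Cfsg.Agent.Lib.J4Type.NV.Split

/-!
A subgroup of order 168 of the two normalisers, faithful on the eight.
-/

set_option autoImplicit false
set_option linter.unusedSectionVars false
set_option maxRecDepth 100000

namespace CfsgLib.J4Type

open Cfsg Subgroup NV CfsgLib.Golay Eight

variable {G : Type*} [Group G] [Finite G] {z : G} {P : Subgroup G}

namespace Frame

variable {F : Frame z P} (D : VData F)
include D

theorem quad_act {φ : ↥(normalizer (D.V : Set G)) →* M24}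
    (hφ : ∀ (g : ↥(normalizer (D.V : Set G))) p q, act D (g : G) (pv p q) =
      pv ((φ g : Equiv.Perm GolayPt) p) ((φ g : Equiv.Perm GolayPt) q))
    {k : ↥(normalizer (D.V : Set G))} {g : ℕ} (hg : inM24 g = true)
    (hk : (φ k : Equiv.Perm GolayPt) = permOf g) {q : ℕ × ℕ × ℕ × ℕ} (hq : q ∈ quadTab) :
    act D (k : G) (quadImg idCode q) = quadImg g q := by
  have hlt : ∀ q ∈ quadTab, q.1 < 24 ∧ q.2.1 < 24 ∧ q.2.2.1 < 24 ∧ q.2.2.2 < 24 := by decide
  obtain ⟨a, b, c, d⟩ := hlt q hq
  have hv := inM24_valid hg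
  have key : ∀ i < 24, ∀ j < 24, act D (k : G) (wv i ^^^ wv j) = wv (img g i) ^^^ wv (img g j) := by
    intro i hi j hj
    have := hφ k (pt i) (pt j)
    rw [hk, permOf_pt hv hi, permOf_pt hv hj] at this
    simpa only [pv, idx_pt hi, idx_pt hj, idx_pt (valid_lt hv hi), idx_pt (valid_lt hv hj)] using this
  have hw : ∀ i < 24, ∀ j < 24, wv i ^^^ wv j < 2048 := fun i hi j hj =>
    Nat.xor_lt_two_pow (n := 11) (tab_facts hi hi).2.1 (tab_facts hj hj).2.1
  unfold quadImg
  rw [img_idCode _ a, img_idCode _ b, img_idCode _ c, img_idCode _ d,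
    act_xor D k.2 (hw _ a _ b) (hw _ c _ d), key _ a _ b, key _ c _ d]

theorem mem_norm_Aei_of_act {k : G} (hk : k ∈ normalizer (D.V : Set G))
    (h : ∀ n ∈ aCodes, act D k n ∈ aCodes) : k ∈ normalizer (Aei D : Set G) := by
  have hsub : ∀ x ∈ Aei D, k * x * k⁻¹ ∈ Aei D := by
    rintro _ ⟨n, hn, rfl⟩
    exact ⟨_, h n hn, (vE_act D hk (aCodes_lt D hn)).2⟩
  refine mem_normalizer_iff.2 fun x => ⟨hsub x, fun hx => ?_⟩
  let f : ↥(Aei D) → ↥(Aei D) := fun y => ⟨k * y * k⁻¹, hsub y y.2⟩
  have hf : Function.Bijective f := Finite.injective_iff_bijective.1 fun a b e =>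
    Subtype.ext (mul_left_cancel (mul_right_cancel (congrArg Subtype.val e)))
  obtain ⟨y, hy⟩ := hf.2 ⟨_, hx⟩
  have : (y : G) = x := mul_left_cancel (mul_right_cancel (congrArg Subtype.val hy))
  exact this ▸ y.2

/-- A group of order 168 normalising both elementary abelian groups and faithful on the eight. -/
theorem exists_levi_eight (hf : Fused D) : ∃ K2 : Subgroup G, K2 ≤ normalizer (D.V : Set G) ∧
    K2 ≤ normalizer (Aei D : Set G) ∧ Nat.card K2 = 168 ∧
    K2 ⊓ centralizer (Aei D : Set G) = ⊥ ∧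
    ∀ a ∈ Aei D, a ≠ 1 → ∃ k ∈ K2, k * z * k⁻¹ = a := by
  obtain ⟨φ, hsurj, hker, hφ⟩ := exists_norm_hom D hf
  obtain ⟨K, hKN, hKV, hKsup, -⟩ := exists_complement D hf
  let ψ : ↥K →* M24 := φ.comp (Subgroup.inclusion hKN)
  have hψi : Function.Injective ψ := (injective_iff_map_eq_one _).2 fun x hx => by
    have h1 : Subgroup.inclusion hKN x ∈ φ.ker := hx
    rw [hker, mem_subgroupOf] at h1
    have h2 : (x : G) ∈ K ⊓ D.V := ⟨x.2, h1⟩
    rw [hKV, mem_bot] at h2
    exact Subtype.ext h2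
  have hψs : Function.Surjective ψ := by
    intro σ
    obtain ⟨g, rfl⟩ := hsurj σ
    have hg : (g : G) ∈ K ⊔ D.V := by rw [hKsup]; exact g.2
    rw [← SetLike.mem_coe, coe_mul_of_left_le_normalizer_right K D.V hKN] at hg
    obtain ⟨a, ha, v, hv, e⟩ := Set.mem_mul.1 hg
    refine ⟨⟨a, ha⟩, ?_⟩
    have hvker : (⟨v, le_normalizer hv⟩ : ↥(normalizer (D.V : Set G))) ∈ φ.ker := by
      rw [hker, mem_subgroupOf]; exact hv
    have : g = Subgroup.inclusion hKN ⟨a, ha⟩ * ⟨v, le_normalizer hv⟩ := Subtype.ext e.symm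
    rw [this, map_mul, MonoidHom.mem_ker.1 hvker, mul_one]
    rfl
  obtain ⟨S, hS, hmem, hall⟩ := exists_perm_group
  refine ⟨(S.comap ψ).map K.subtype, (map_subtype_le _).trans hKN, ?_, ?_, ?_, ?_⟩
  · rintro _ ⟨k, hk, rfl⟩
    obtain ⟨i, hi, e⟩ := hmem _ hk
    obtain ⟨hm, hq⟩ := permAt_mem hi
    set k' : ↥(normalizer (D.V : Set G)) := Subgroup.inclusion hKN k
    have hquad : ∀ q ∈ quadTab, act D (k' : G) (quadImg idCode q) ∈ aCodes := fun q hq' => by
      rw [quad_act D hφ hm e hq']; exact hq q hq'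
    have hid := perm_gen.2.2.2
    have hin : ∀ v ∈ [5, 10, 64], act D (k' : G) v ∈ aCodes := by
      intro v hv
      rw [← hid, List.mem_map] at hv
      obtain ⟨q, hq', rfl⟩ := hv
      exact hquad q hq'
    refine mem_norm_Aei_of_act D (hKN k.2) fun n hn => ?_
    have hcl : ∀ a ∈ aCodes, ∀ b ∈ aCodes, a ^^^ b ∈ aCodes := by decide
    have h0 : act D (k' : G) 0 = 0 := by
      have := act_xor D k'.2 (show (0 : ℕ) < 2048 by norm_num) (show (0 : ℕ) < 2048 by norm_num)
      rw [Nat.xor_self] at this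
      rw [this, Nat.xor_self]
    have h5 := hin 5 (by simp)
    have h10 := hin 10 (by simp)
    have h64 := hin 64 (by simp)
    have hx : ∀ a b, a < 2048 → b < 2048 → act D (k' : G) a ∈ aCodes → act D (k' : G) b ∈ aCodes →
        act D (k' : G) (a ^^^ b) ∈ aCodes := fun a b ha hb ha' hb' => by
      rw [act_xor D k'.2 ha hb]; exact hcl _ ha' _ hb'
    have h15 := hx 5 10 (by norm_num) (by norm_num) h5 h10
    simp only [aCodes, List.mem_cons, List.not_mem_nil, or_false] at hn
    rcases hn with rfl | rfl | rfl | rfl | rfl | rfl | rfl | rfl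
    · exact h0.symm ▸ (by decide : (0 : ℕ) ∈ aCodes)
    · exact h5
    · exact h10
    · exact h15
    · exact h64
    · exact hx 5 64 (by norm_num) (by norm_num) h5 h64
    · exact hx 10 64 (by norm_num) (by norm_num) h10 h64
    · exact hx 15 64 (by norm_num) (by norm_num) h15 h64
  · rw [Subgroup.card_map_of_injective K.subtype_injective, ← hS]
    exact Nat.card_eq_of_bijective (fun x : ↥(S.comap ψ) => (⟨ψ x, x.2⟩ : S))
      ⟨fun a b e => Subtype.ext (hψi (congrArg Subtype.val e)), fun y => by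
        obtain ⟨x, hx⟩ := hψs y
        exact ⟨⟨x, show ψ x ∈ S from hx ▸ y.2⟩, Subtype.ext hx⟩⟩
  · rw [eq_bot_iff]
    rintro _ ⟨⟨k, hk, rfl⟩, hc⟩
    obtain ⟨i, hi, e⟩ := hmem _ hk
    set k' : ↥(normalizer (D.V : Set G)) := Subgroup.inclusion hKN k
    have hfix : ∀ q ∈ quadTab, quadImg (permAt i) q = quadImg idCode q := fun q hq => by
      rw [← quad_act D hφ (permAt_mem hi).1 e hq]
      have hqa : quadImg idCode q ∈ aCodes := by
        have : quadImg idCode q ∈ quadTab.map (quadImg idCode) := List.mem_map_of_mem hq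
        rw [perm_gen.2.2.2] at this
        revert this; generalize quadImg idCode q = w; intro hw
        simp only [List.mem_cons, List.not_mem_nil, or_false] at hw
        rcases hw with rfl | rfl | rfl <;> decide
      show cV D ((k : G) * vE D (quadImg idCode q) * (k : G)⁻¹) = _
      rw [← (mem_centralizer_iff.1 (show (k : G) ∈ centralizer (Aei D : Set G) from hc)) _ ⟨_, hqa, rfl⟩,
        mul_inv_cancel_right,
        cV_vE D (aCodes_lt D hqa)]
    have hi0 : i = 0 := by
      refine triple_inj hi (by norm_num) ?_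
      rw [tripleOf, tripleOf, List.map_congr_left hfix, permAt_zero_code]
    subst hi0
    have : ψ k = 1 := Subtype.ext (e.trans perm_zero)
    rw [← map_one ψ] at this
    rw [hψi this]
    exact one_mem _
  · rintro _ ⟨n, hn, rfl⟩ hne
    have hn0 : n ≠ 0 := fun e => hne (by rw [e, vE_zero])
    have h := List.all_eq_true.1 perm_transitive n hn
    rw [Bool.or_eq_true, List.any_eq_true] at h
    rcases h with e | ⟨i, hi, e⟩
    · exact absurd (Nat.eq_of_beq_eq_true e) hn0
    rw [List.mem_range] at hi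
    obtain ⟨k, hk⟩ := hψs ⟨_, inM24_mem (permAt_mem hi).1⟩
    refine ⟨(k : G), ⟨k, show ψ k ∈ S from hk ▸ hall i hi, rfl⟩, ?_⟩
    have hq := quad_act D hφ (k := Subgroup.inclusion hKN k) (permAt_mem hi).1 (congrArg Subtype.val hk)
      (q := (0, 1, 2, 10)) (by decide)
    rw [show quadImg idCode (0, 1, 2, 10) = 64 by decide +kernel, Nat.eq_of_beq_eq_true e] at hq
    have := (vE_act D (hKN k.2) (show (64 : ℕ) < 2048 by norm_num)).2
    change vE D (act D (k : G) 64) = _ at this
    rw [show act D (k : G) 64 = n from hq, vE_z] at this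
    exact this.symm

end Frame

end CfsgLib.J4Type
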