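import Cfsg.Agent.Lib.J4Type.Eight.Five

/-!
The subgroups of order seven of the kernel on the five conjugates of `V`: their centralisers and
normalisers lie in the normaliser of the eight, and a symmetric group of degree five is found there.
-/

set_option autoImplicit false
set_option linter.unusedSectionVars false
set_option maxRecDepth 100000

namespace CfsgLib.J4Type

open Cfsg Subgroup Eight

namespace Eight

/-- The local facts on the subgroups of order seven of the centraliser of `z`. -/
structure LocalSeven {G : Type*} [Group G] (z : G) : Prop where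
  not_dvd : ¬ 49 ∣ Nat.card G
  card_cent : ∀ S : Subgroup G, Nat.card S = 7 → S ≤ Cen z →
    Nat.card ↥(centralizer (S : Set G)) = 840
  card_norm : ∀ S : Subgroup G, Nat.card S = 7 → S ≤ Cen z →
    Nat.card ↥(normalizer (S : Set G)) = 2520

theorem sylow_of_card {G : Type*} [Group G] [Finite G] {p : ℕ} [Fact p.Prime]
    (hp : ¬ p * p ∣ Nat.card G) {S : Subgroup G} (hS : Nat.card S = p) :
    ∃ T : Sylow p G, (T : Subgroup G) = S := by
  obtain ⟨T, hT⟩ := (IsPGroup.of_card (n := 1) (G := S) (by rw [hS, pow_one])).exists_le_sylow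
  refine ⟨T, (eq_of_le_of_card_ge hT ?_).symm⟩
  obtain ⟨n, hn⟩ := IsPGroup.iff_card.1 T.2
  have hd : p ^ n ∣ Nat.card G := hn ▸ card_subgroup_dvd_card _
  rw [hn, hS]
  rcases Nat.lt_or_ge n 2 with h | h
  · exact le_trans (Nat.pow_le_pow_right (Fact.out : p.Prime).pos (by omega : n ≤ 1)) (pow_one p).le
  · exact absurd ((pow_two p ▸ Nat.pow_dvd_pow p h).trans hd) hp

theorem card_cent_map {G : Type*} [Group G] (g : G) (S : Subgroup G) :
    Nat.card ↥(centralizer ((S.map (MulAut.conj g).toMonoidHom : Subgroup G) : Set G)) =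
      Nat.card ↥(centralizer (S : Set G)) := by
  have e : centralizer ((S.map (MulAut.conj g).toMonoidHom : Subgroup G) : Set G) =
      (centralizer (S : Set G)).map (MulAut.conj g).toMonoidHom := by
    ext x
    rw [mem_map_equiv, MulAut.conj_symm_apply, mem_centralizer_iff, mem_centralizer_iff]
    constructor
    · intro h y hy
      have := h _ ⟨y, hy, rfl⟩
      change g * y * g⁻¹ * x = x * (g * y * g⁻¹) at this
      calc y * (g⁻¹ * x * g) = g⁻¹ * (g * y * g⁻¹ * x) * g := by group
        _ = g⁻¹ * (x * (g * y * g⁻¹)) * g := by rw [this]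
        _ = _ := by group
    · rintro h _ ⟨y, hy, rfl⟩
      show g * y * g⁻¹ * x = x * (g * y * g⁻¹)
      calc g * y * g⁻¹ * x = g * (y * (g⁻¹ * x * g)) * g⁻¹ := by group
        _ = g * (g⁻¹ * x * g * y) * g⁻¹ := by rw [h y hy]
        _ = _ := by group
  rw [e, Subgroup.card_map_of_injective (MulAut.conj g).injective]

end Eight

variable {G : Type*} [Group G] [Finite G] {z : G} {P : Subgroup G}

namespace Frame

variable {F : Frame z P} (D : VData F)
include D

theorem exists_seven_cen : ∃ S : Subgroup G, Nat.card S = 7 ∧ S ≤ Cen z := by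
  have : Fact (Nat.Prime 7) := ⟨by norm_num⟩
  let μ : ↥(Cen z) →* Cert.LGrp :=
    { toFun := fun g => ⟨F.mat g, F.mat_inL g g.2⟩
      map_one' := Subtype.ext F.mat_one
      map_mul' := fun a b => Subtype.ext (F.mat_mul a a.2 b b.2) }
  have hμ : Function.Surjective μ := by
    rintro ⟨m, hm⟩
    obtain ⟨h, hh, e⟩ := F.mat_surj m hm
    exact ⟨⟨h, hh.1⟩, Subtype.ext e⟩
  obtain ⟨x, hx⟩ := exists_prime_orderOf_dvd_card' (G := ↥(Cen z)) 7
    (dvd_trans (by rw [Cert.card_LGrp]; norm_num) (Subgroup.card_dvd_of_surjective μ hμ))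
  refine ⟨zpowers (x : G), ?_, zpowers_le.2 x.2⟩
  rw [Nat.card_zpowers, Subgroup.orderOf_coe, hx]

theorem seven_cards (h7 : LocalSeven z) {S : Subgroup G} (hS : Nat.card S = 7) :
    Nat.card ↥(centralizer (S : Set G)) = 840 ∧ Nat.card ↥(normalizer (S : Set G)) = 2520 := by
  have : Fact (Nat.Prime 7) := ⟨by norm_num⟩
  obtain ⟨S0, h0, h0z⟩ := exists_seven_cen D
  obtain ⟨T, hT⟩ := sylow_of_card (p := 7) h7.not_dvd hS
  obtain ⟨T0, hT0⟩ := sylow_of_card (p := 7) h7.not_dvd h0
  obtain ⟨g, hg⟩ := MulAction.exists_smul_eq G T0 T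
  have e : S = S0.map (MulAut.conj g).toMonoidHom := by
    rw [← hT, ← hT0, ← hg]
    rfl
  subst e
  refine ⟨(card_cent_map g S0).trans (h7.card_cent S0 h0 h0z), ?_⟩
  rw [← map_equiv_normalizer_eq, Subgroup.card_map_of_injective (MulAut.conj g).injective]
  exact h7.card_norm S0 h0 h0z

variable (hf : Fused D) (h7 : LocalSeven z)
include hf h7

theorem seven_local : ∃ s : G, orderOf s = 7 ∧
    normalizer (zpowers s : Set G) ≤ normalizer (Aei D : Set G) ∧
    ∃ X : Subgroup G, X ≤ normalizer (Aei D : Set G) ∧ Nonempty (↥X ≃* Equiv.Perm (Fin 5)) := by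
  have : Fact (Nat.Prime 7) := ⟨by norm_num⟩
  set NA := normalizer (Aei D : Set G)
  obtain ⟨⟨s, hsK⟩, hs'⟩ := exists_prime_orderOf_dvd_card' (G := kerA D) 7
    (by rw [card_kerA D hf]; norm_num)
  have hs : orderOf s = 7 := by rwa [Subgroup.orderOf_mk] at hs'
  have hs7 : s ^ 7 = 1 := by rw [← hs]; exact pow_orderOf_eq_one s
  obtain ⟨hsn, hψs⟩ := (mem_kerA D).1 hsK
  have hSc : Nat.card (zpowers s) = 7 := by rw [Nat.card_zpowers, hs]
  obtain ⟨hC, hN⟩ := seven_cards D h7 hSc
  have hcomm : ∀ x, s * x = x * s → x ∈ centralizer (zpowers s : Set G) := fun x hx => by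
    refine mem_centralizer_iff.2 fun y hy => ?_
    obtain ⟨k, rfl⟩ := mem_zpowers_iff.1 hy
    exact ((show Commute x s from hx.symm).zpow_right k).eq.symm
  -- the centraliser in the centraliser of the eight
  set C7 := centralizer (Aei D : Set G) ⊓ centralizer (zpowers s : Set G) with hC7
  have hC7n : C7 ≤ NA := inf_le_left.trans (centAei_le_norm D)
  let f : ↥C7 →* _ := (psiA D).comp (Subgroup.inclusion hC7n)
  have hfs : Function.Surjective f := by
    intro π
    obtain ⟨c, hc, hπ⟩ := psiA_surjective_cent D hf π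
    obtain ⟨l, hl, e⟩ := exists_fixed_lift D hf hsn (p := 7) hs7 (by norm_num) c.2
      (by rw [hψs]; exact Commute.one_left _)
      (by rw [show (⟨(c : G), c.2⟩ : ↥NA) = c from rfl, (rhoA_eq_one D).2 hc]
          exact Commute.one_right _)
    refine ⟨⟨c * l, mul_mem hc (Lei_le D hl), hcomm _ e⟩, ?_⟩
    show psiA D (Subgroup.inclusion hC7n ⟨(c : G) * l, _⟩) = π
    rw [show Subgroup.inclusion hC7n ⟨(c : G) * l, mul_mem hc (Lei_le D hl), hcomm _ e⟩ =
        c * ⟨l, centAei_le_norm D (Lei_le D hl)⟩ from Subtype.ext rfl, map_mul, hπ,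
      (psiA_eq_one D hf (c := ⟨l, _⟩) (Lei_le D hl)).2 hl, mul_one]
  obtain ⟨k, hk⟩ : ∃ k, Nat.card f.ker = 2 ^ k := by
    have hle : Nat.card f.ker ∣ Nat.card (Lei D) := by
      rw [← Subgroup.card_map_of_injective C7.subtype_injective]
      refine card_dvd_of_le ?_
      rintro _ ⟨x, hx, rfl⟩
      exact (psiA_eq_one D hf (c := Subgroup.inclusion hC7n x) x.2.1).1 hx
    rw [card_Lei] at hle
    obtain ⟨k, -, e⟩ := (Nat.dvd_prime_pow Nat.prime_two).1 hle
    exact ⟨k, e⟩
  have h := f.ker.card_mul_index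
  rw [index_ker, MonoidHom.range_eq_top.2 hfs, Subgroup.card_top, card_permVA D hf, hk] at h
  have hd : Nat.card C7 ∣ 840 := hC ▸ card_dvd_of_le inf_le_right
  have hC7c : Nat.card C7 = 120 := by
    rw [← h, show (840 : ℕ) = 7 * 120 by norm_num] at hd
    have h2 := Nat.dvd_of_mul_dvd_mul_right (by norm_num : 0 < 120) hd
    rcases (Nat.dvd_prime (by norm_num)).1 h2 with e | e
    · rw [← h, e]
    · exfalso
      rcases k with _ | k
      · norm_num at e
      · rw [pow_succ] at e; omega
  have hfi : Function.Injective f :=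
    (hfs.bijective_of_nat_card_le (by rw [card_permVA D hf, hC7c])).1
  set T := zpowers s ⊔ C7
  have hT : T = centralizer (zpowers s : Set G) := by
    refine eq_of_le_of_card_ge (sup_le (zpowers_le.2 (hcomm s rfl)) inf_le_right) ?_
    rw [hC]
    refine Nat.le_of_dvd Nat.card_pos ?_
    rw [show (840 : ℕ) = 7 * 120 by norm_num]
    refine Nat.Coprime.mul_dvd_of_dvd_of_dvd (by norm_num) ?_ ?_
    · rw [← hSc]; exact card_dvd_of_le le_sup_left
    · rw [← hC7c]; exact card_dvd_of_le le_sup_right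
  have hCle : centralizer (zpowers s : Set G) ≤ NA :=
    hT ▸ sup_le (zpowers_le.2 hsn) hC7n
  -- the centraliser meets the kernel in the cyclic group
  have hCK : ∀ x ∈ kerA D, x ∈ centralizer (zpowers s : Set G) → x ∈ zpowers s := by
    intro x hxK hx
    rw [← hT, ← SetLike.mem_coe, coe_mul_of_right_le_normalizer_left (zpowers s) C7
      (inf_le_right.trans (centralizer_le_normalizer _))] at hx
    obtain ⟨a, ha, c, hc, rfl⟩ := Set.mem_mul.1 hx
    have haK : a ∈ kerA D := (zpowers_le.2 hsK) ha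
    have hcK : c ∈ kerA D := by
      simpa using (kerA D).mul_mem ((kerA D).inv_mem haK) hxK
    obtain ⟨hn, e⟩ := (mem_kerA D).1 hcK
    have : (⟨c, hc⟩ : ↥C7) = 1 := hfi (show psiA D ⟨c, hn⟩ = f 1 by rw [e, map_one])
    rw [show c = 1 from congrArg Subtype.val this, mul_one]
    exact ha
  -- the normaliser in the kernel is larger
  obtain ⟨n, hnK, hnN, hnC⟩ : ∃ n, n ∈ kerA D ∧ n ∈ normalizer (zpowers s : Set G) ∧
      n ∉ centralizer (zpowers s : Set G) := by
    by_contra hcon
    push Not at hcon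
    set S' := (zpowers s).subgroupOf (kerA D) with hS'
    have hS'c : Nat.card S' = 7 := by
      rw [Nat.card_congr (subgroupOfEquivOfLe (zpowers_le.2 hsK)).toEquiv, hSc]
    obtain ⟨Q, hQ⟩ := sylow_of_card (p := 7) (G := kerA D)
      (by rw [card_kerA D hf]; norm_num) hS'c
    have hnor : normalizer (S' : Set ↥(kerA D)) = S' := by
      refine le_antisymm (fun x hx => ?_) le_normalizer
      have hxn : (x : G) ∈ normalizer (zpowers s : Set G) := by
        refine mem_normalizer_iff.2 fun y => ?_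
        constructor
        · intro hy
          exact (mem_normalizer_iff.1 hx ⟨y, (zpowers_le.2 hsK) hy⟩).1 hy
        · intro hy
          have hyK : y ∈ kerA D := by
            have := (kerA D).mul_mem ((kerA D).mul_mem ((kerA D).inv_mem x.2)
              ((zpowers_le.2 hsK) hy)) x.2
            simpa [mul_assoc] using this
          exact (mem_normalizer_iff.1 hx ⟨y, hyK⟩).2 hy
      exact hCK x x.2 (hcon x x.2 hxn)
    have h1 := card_sylow_modEq_one 7 ↥(kerA D)
    rw [Q.card_eq_index_normalizer] at h1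
    change (normalizer ((Q : Subgroup ↥(kerA D)) : Set ↥(kerA D))).index ≡ 1 [MOD 7] at h1
    rw [hQ, hnor] at h1
    have h2 := S'.card_mul_index
    rw [hS'c, card_kerA D hf] at h2
    rw [show S'.index = 2 ^ 15 * 24 by omega] at h1
    exact absurd h1 (by decide +kernel)
  have hNle : normalizer (zpowers s : Set G) ≤ NA := by
    set T' := normalizer (zpowers s : Set G) ⊓ NA with hT'
    have h1 : centralizer (zpowers s : Set G) ≤ T' := le_inf (centralizer_le_normalizer _) hCle
    have h2 : Nat.card T' ∣ 2520 := hN ▸ card_dvd_of_le inf_le_left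
    have h3 : 840 ∣ Nat.card T' := hC ▸ card_dvd_of_le h1
    have h4 : Nat.card T' ≠ 840 := fun e => hnC <| by
      rw [eq_of_le_of_card_ge h1 (by rw [hC, e])]
      exact ⟨hnN, kerA_le D hnK⟩
    obtain ⟨j, hj⟩ := h3
    rw [hj, show (2520 : ℕ) = 840 * 3 by norm_num] at h2
    have hj3 := Nat.dvd_of_mul_dvd_mul_left (by norm_num : 0 < 840) h2
    have : T' = normalizer (zpowers s : Set G) := by
      refine eq_of_le_of_card_ge inf_le_left ?_
      rcases (Nat.dvd_prime Nat.prime_three).1 hj3 with e | e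
      · exact absurd (by rw [hj, e]) h4
      · rw [hN, hj, e]
    exact this ▸ inf_le_right
  refine ⟨s, hs, hNle, C7, hC7n, ⟨(MulEquiv.ofBijective f ⟨hfi, hfs⟩).trans ?_⟩⟩
  refine Equiv.permCongrHom (Finite.equivFinOfCardEq ?_)
  rw [← index_eq_card, index_normVA D hf]

end Frame

end CfsgLib.J4Type
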