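import Cfsg.Agent.Lib.J4Type.Eight.Struct
import Cfsg.Agent.Lib.StructC.BurnsideBasis
import Cfsg.Agent.Lib.Transfer.PPrimeAut

/-!
The preimage of the sixteen is special with centre the eight.
-/

set_option autoImplicit false
set_option linter.unusedSectionVars false
set_option maxRecDepth 100000

namespace CfsgLib.J4Type

open Cfsg Subgroup NV Eight
open scoped commutatorElement

namespace Eight

theorem perp_pair : ((List.range 4096).any fun u => !bF u 5 && !bF u 10 &&
    (List.range 4096).any fun v => !bF v 5 && !bF v 10 && bF u v) = true := by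
  decide +kernel

end Eight

variable {G : Type*} [Group G] [Finite G] {z : G} {P : Subgroup G}

namespace Frame

variable {F : Frame z P} (D : VData F)
include D

theorem radCent_le_Lei {x : G} (hx : x ∈ Rad z) (hc : x ∈ centralizer (Aei D : Set G)) :
    x ∈ Lei D := by
  rw [mem_Lei, (F.mat_eq_id x (rad_le_Cen hx)).2 hx]
  exact ⟨hc, by decide +kernel⟩

theorem Aei_le_cent : Aei D ≤ centralizer (Aei D : Set G) := fun a ha =>
  mem_centralizer_iff.2 fun b hb => Aei_comm D hb ha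

theorem cent_comm {c a : G} (hc : c ∈ centralizer (Aei D : Set G)) (ha : a ∈ Aei D) :
    c * a = a * c := (mem_centralizer_iff.1 hc a ha).symm

theorem Aei_le_Lei : Aei D ≤ Lei D := by
  intro a ha
  obtain ⟨n, hn, rfl⟩ := ha
  have hl : ∀ n ∈ aCodes, n % 64 < 64 ∧ n / 128 = 0 := by decide
  refine radCent_le_Lei D ?_ (Aei_le_cent D ⟨n, hn, rfl⟩)
  rw [vE, (hl n hn).2, vC_zero D, mul_one]
  exact mul_mem (F.eE_spec (lt_trans (hl n hn).1 (by norm_num))).1 (F.zp_mem _)

theorem eE_perp {v : ℕ} (hv : v < 4096) (h5 : bF v 5 = false) (h10 : bF v 10 = false) :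
    F.eE v ∈ Rad z ∧ F.eE v ∈ centralizer (Aei D : Set G) := by
  obtain ⟨a, b, -⟩ := F.eE_spec hv
  exact ⟨a, (mem_rad_centAei D a).2 (by rw [b]; exact ⟨h5, h10⟩)⟩

theorem zp_mem_Aei (b : Bool) : F.zp b ∈ Aei D := by
  cases b
  · exact one_mem _
  · exact z_mem_Aei D

/-- The sixteen act trivially on the radical part modulo the eight. -/
theorem lei_rad_comm {l x : G} (hl : l ∈ Lei D) (hx : x ∈ Rad z)
    (hc : x ∈ centralizer (Aei D : Set G)) : l * x * l⁻¹ * x⁻¹ ∈ Aei D := by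
  obtain ⟨hlc, hlo⟩ := (mem_Lei D).1 hl
  obtain ⟨h5, h10⟩ := (mem_rad_centAei D hx).1 hc
  have hlz := centAei_le D hlc
  have hy := F.rad_conj hlz hx
  have hsq : x * x ∈ Aei D := by
    rw [F.sq x hx]; split
    · exact z_mem_Aei D
    · exact one_mem _
  have h1 : l * x * l⁻¹ * x ∈ Aei D := by
    refine rad_mem_Aei D (mul_mem hy hx) ?_
    rw [F.co_mul _ hy _ hx, F.conj_co hlz hx]
    exact o_perp hlo (F.co_lt x hx) h5 h10
  have := mul_mem h1 (inv_mem hsq)
  rwa [mul_inv_rev, ← mul_assoc, mul_inv_cancel_right] at this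

/-- The centre of the group is the eight. -/
theorem mem_Aei_iff_central {x : G} (hx : x ∈ Lei D) :
    x ∈ Aei D ↔ ∀ y ∈ Lei D, x * y = y * x := by
  refine ⟨fun h y hy => (cent_comm D (Lei_le D hy) h).symm, fun h => ?_⟩
  obtain ⟨hxc, hxo⟩ := (mem_Lei D).1 hx
  have hxz := centAei_le D hxc
  have hv : ∀ v < 4096, bF v 5 = false → bF v 10 = false → x * F.eE v = F.eE v * x :=
    fun v hv h5 h10 => h _ (radCent_le_Lei D (eE_perp D hv h5 h10).1 (eE_perp D hv h5 h10).2)
  have hid : F.mat x = idM := o_faithful hxo fun v hlt h5 h10 => by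
    obtain ⟨a, b, -⟩ := F.eE_spec hlt
    have := F.conj_co hxz a
    rw [hv v hlt h5 h10, mul_inv_cancel_right, b] at this
    exact this.symm
  have hr : x ∈ Rad z := (F.mat_eq_id x hxz).1 hid
  refine rad_mem_Aei D hr ?_
  have hk := line_perp_ok
  simp only [Bool.and_eq_true, List.all_eq_true, List.mem_range, Bool.or_eq_true, List.any_eq_true,
    List.elem_iff, Bool.not_eq_true'] at hk
  obtain ⟨h5, h10⟩ := (mem_rad_centAei D hr).1 hxc
  rcases hk.2 _ (F.co_lt x hr) with ((e | e) | e) | ⟨v, hlt, ⟨v5, v10⟩, e⟩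
  · rw [h5] at e; exact Bool.noConfusion e
  · rw [h10] at e; exact Bool.noConfusion e
  · exact e
  · obtain ⟨a, b, -⟩ := F.eE_spec hlt
    have := conj_rad D hr a
    rw [hv v hlt v5 v10, mul_inv_cancel_right, b, e] at this
    exact absurd (F.zp_inj (show F.zp true = F.zp false from left_eq_mul.1 this)) (by decide)

theorem exists_pair : ∃ u v : G, u ∈ Rad z ∧ u ∈ centralizer (Aei D : Set G) ∧ v ∈ Rad z ∧
    v ∈ centralizer (Aei D : Set G) ∧ ⁅u, v⁆ = z := by
  have h := perp_pair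
  simp only [List.any_eq_true, List.mem_range, Bool.and_eq_true, Bool.not_eq_true'] at h
  obtain ⟨u, hu, ⟨u5, u10⟩, v, hv, ⟨v5, v10⟩, e⟩ := h
  obtain ⟨a, ha⟩ := eE_perp D hu u5 u10
  obtain ⟨b, hb⟩ := eE_perp D hv v5 v10
  refine ⟨_, _, a, ha, b, hb, ?_⟩
  rw [commutatorElement_def, conj_rad D a b, (F.eE_spec hu).2.1, (F.eE_spec hv).2.1, e,
    F.zp_comm (rad_le_Cen b), mul_inv_cancel_right]
  rfl

/-- An element acting trivially on the group modulo the eight. -/
def CentralMod (x : G) : Prop := x ∈ Lei D ∧ ∀ y ∈ Lei D, x * y * x⁻¹ * y⁻¹ ∈ Aei D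

theorem centralMod_rad {x : G} (hx : x ∈ Rad z) (hc : x ∈ centralizer (Aei D : Set G)) :
    CentralMod D x := by
  refine ⟨radCent_le_Lei D hx hc, fun y hy => ?_⟩
  have := inv_mem (lei_rad_comm D hy hx hc)
  simpa only [mul_inv_rev, inv_inv, ← mul_assoc] using this

theorem centralMod_mul {a b : G} (ha : CentralMod D a) (hb : CentralMod D b) :
    CentralMod D (a * b) := by
  refine ⟨mul_mem ha.1 hb.1, fun y hy => ?_⟩
  have h1 := hb.2 y hy
  have e : a * b * y * (a * b)⁻¹ * y⁻¹ = (b * y * b⁻¹ * y⁻¹) * (a * y * a⁻¹ * y⁻¹) := by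
    calc a * b * y * (a * b)⁻¹ * y⁻¹ = a * (b * y * b⁻¹ * y⁻¹) * a⁻¹ * (a * y * a⁻¹ * y⁻¹) := by group
      _ = _ := by rw [cent_comm D (Lei_le D ha.1) h1, mul_inv_cancel_right]
  rw [e]
  exact mul_mem h1 (ha.2 y hy)

/-- The sixteen are filled by a set closed under products and conjugation. -/
theorem fill {p : G → Prop} (hsub : ∀ x, p x → x ∈ Lei D)
    (hmul : ∀ a b, p a → p b → p (a * b))
    (hrad : ∀ x ∈ Rad z, x ∈ centralizer (Aei D : Set G) → p x)
    (hconj : ∀ c ∈ centralizer (Aei D : Set G), ∀ x, p x → p (c * x * c⁻¹))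
    {w : G} (hw : p w) (hwr : w ∉ Rad z) {l : G} (hl : l ∈ Lei D) : p l := by
  obtain ⟨hlc, hlo⟩ := (mem_Lei D).1 hl
  by_cases hid : F.mat l = idM
  · exact hrad l ((F.mat_eq_id l (centAei_le D hlc)).1 hid) hlc
  obtain ⟨hwc, hwo⟩ := (mem_Lei D).1 (hsub w hw)
  let o : Cert.LGrp := ⟨F.mat w, F.mat_inL w (centAei_le D hwc)⟩
  let o' : Cert.LGrp := ⟨F.mat l, F.mat_inL l (centAei_le D hlc)⟩
  have key := o_irreducible (fun m => ∃ x, p x ∧ F.mat x = m.1) (o := o) (o' := o') (by
    rintro g hg m ⟨x, hx, e⟩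
    obtain ⟨⟨c, hc⟩, hcg⟩ := muA_surjective D ⟨g, hg⟩
    have hxz := centAei_le D ((mem_Lei D).1 (hsub x hx)).1
    have hcz := centAei_le D hc
    refine ⟨c * x * c⁻¹, hconj c hc x hx, ?_⟩
    have e1 : F.mat c = g.1 := congrArg (fun m : fixGrp => (m : Cert.LGrp).1) hcg
    have e2 : F.mat c⁻¹ = (g⁻¹).1 :=
      congrArg (fun m : fixGrp => (m : Cert.LGrp).1)
        (show muA D ⟨c, hc⟩⁻¹ = (⟨g, hg⟩ : fixGrp)⁻¹ by rw [map_inv, hcg])
    rw [F.mat_mul _ (mul_mem hcz hxz) _ (inv_mem hcz), F.mat_mul _ hcz _ hxz, e1, e2, e]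
    rfl) hwo (fun e => hwr ((F.mat_eq_id w (centAei_le D hwc)).1 (congrArg Subtype.val e)))
    ⟨w, hw, rfl⟩ hlo (fun e => hid (congrArg Subtype.val e))
  obtain ⟨x, hx, e⟩ := key
  have hxc := ((mem_Lei D).1 (hsub x hx)).1
  have hd : l * x⁻¹ ∈ Rad z := by
    refine (F.mat_eq_id _ (mul_mem (centAei_le D hlc) (inv_mem (centAei_le D hxc)))).1 ?_
    rw [F.mat_mul _ (centAei_le D hlc) _ (inv_mem (centAei_le D hxc))]
    change mm (o'.1) _ = _
    rw [← e, ← F.mat_mul _ (centAei_le D hxc) _ (inv_mem (centAei_le D hxc)), mul_inv_cancel,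
      F.mat_one]
  have := hmul _ _ (hrad _ hd (mul_mem hlc (inv_mem hxc))) hx
  rwa [inv_mul_cancel_right] at this

variable (hf : Fused D)
include hf

theorem conj_mem_Lei {g x : G} (hg : g ∈ normalizer (Aei D : Set G)) (hx : x ∈ Lei D) :
    g * x * g⁻¹ ∈ Lei D := (mem_normalizer_iff.1 (normAei_le_normLei D hf hg) x).1 hx

theorem centralMod_conj {g x : G} (hg : g ∈ normalizer (Aei D : Set G)) (hx : CentralMod D x) :
    CentralMod D (g * x * g⁻¹) := by
  refine ⟨conj_mem_Lei D hf hg hx.1, fun y hy => ?_⟩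
  have h := hx.2 _ (conj_mem_Lei D hf (inv_mem hg) hy)
  have := (mem_normalizer_iff.1 hg _).1 h
  convert this using 1
  group

/-- Every element of the eight is a commutator. -/
theorem exists_comm_eq {a : G} (ha : a ∈ Aei D) (ha1 : a ≠ 1) :
    ∃ u v : G, CentralMod D u ∧ CentralMod D v ∧ ⁅u, v⁆ = a := by
  obtain ⟨K2, -, hA, -, -, htr⟩ := exists_levi_eight D hf
  obtain ⟨k, hk, rfl⟩ := htr a ha ha1
  obtain ⟨u, v, u1, u2, v1, v2, e⟩ := exists_pair D
  refine ⟨_, _, centralMod_conj D hf (hA hk) (centralMod_rad D u1 u2),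
    centralMod_conj D hf (hA hk) (centralMod_rad D v1 v2), ?_⟩
  rw [← conjugate_commutatorElement, e]

theorem exists_outside : ∃ w, CentralMod D w ∧ w ∉ Rad z := by
  obtain ⟨u, v, hu, hv, e⟩ := exists_comm_eq D hf (eE_mem_Aei D).1 (fun e => by
    have := (F.eE_spec (show (5 : ℕ) < 4096 by norm_num)).2.1
    rw [e, F.co_one] at this
    exact absurd this (by norm_num))
  by_contra hcon
  push Not at hcon
  have hur := hcon u hu
  have hvr := hcon v hv
  rw [commutatorElement_def, conj_rad D hur hvr, F.zp_comm (rad_le_Cen hvr), mul_inv_cancel_right] at e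
  have := congrArg F.co e
  rw [F.co_zp, (F.eE_spec (show (5 : ℕ) < 4096 by norm_num)).2.1] at this
  exact absurd this (by norm_num)

theorem centralMod_all {l : G} (hl : l ∈ Lei D) : CentralMod D l := by
  obtain ⟨w, hw, hwr⟩ := exists_outside D hf
  exact fill D (p := CentralMod D) (fun x h => h.1) (fun _ _ => centralMod_mul D)
    (fun _ => centralMod_rad D)
    (fun c hc x => centralMod_conj D hf (centAei_le_norm D hc)) hw hwr hl

theorem sq_mem {l : G} (hl : l ∈ Lei D) : l * l ∈ Aei D := by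
  have hmul : ∀ a b, (a ∈ Lei D ∧ a * a ∈ Aei D) → (b ∈ Lei D ∧ b * b ∈ Aei D) →
      (a * b ∈ Lei D ∧ a * b * (a * b) ∈ Aei D) := by
    rintro a b ⟨ha, ha2⟩ ⟨hb, hb2⟩
    refine ⟨mul_mem ha hb, ?_⟩
    have h1 := (centralMod_all D hf hb).2 a ha
    have e : a * b * (a * b) = (b * a * b⁻¹ * a⁻¹) * (a * a) * (b * b) := by
      calc a * b * (a * b) = a * (b * a * b⁻¹ * a⁻¹) * a⁻¹ * (a * a) * (b * b) := by group
        _ = _ := by rw [cent_comm D (Lei_le D ha) h1, mul_inv_cancel_right]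
    rw [e]
    exact mul_mem (mul_mem h1 ha2) hb2
  have hrad : ∀ x ∈ Rad z, x ∈ centralizer (Aei D : Set G) → x ∈ Lei D ∧ x * x ∈ Aei D :=
    fun x hx hc => ⟨radCent_le_Lei D hx hc, by
      rw [F.sq x hx]; split
      · exact z_mem_Aei D
      · exact one_mem _⟩
  obtain ⟨u, v, hu, huc, hv, hvc, e⟩ := exists_pair D
  obtain ⟨K2, -, hA, -, -, htr⟩ := exists_levi_eight D hf
  have hconj : ∀ c ∈ normalizer (Aei D : Set G), ∀ x, (x ∈ Lei D ∧ x * x ∈ Aei D) →
      c * x * c⁻¹ ∈ Lei D ∧ c * x * c⁻¹ * (c * x * c⁻¹) ∈ Aei D := by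
    rintro c hc x ⟨hx, hx2⟩
    refine ⟨conj_mem_Lei D hf hc hx, ?_⟩
    have := (mem_normalizer_iff.1 hc _).1 hx2
    convert this using 1
    group
  obtain ⟨k, hk, he⟩ := htr _ (eE_mem_Aei D).1 (fun e => by
    have := (F.eE_spec (show (5 : ℕ) < 4096 by norm_num)).2.1
    rw [e, F.co_one] at this
    exact absurd this (by norm_num))
  rcases em (k * u * k⁻¹ ∈ Rad z) with h1 | h1
  · rcases em (k * v * k⁻¹ ∈ Rad z) with h2 | h2
    · exfalso
      have := conjugate_commutatorElement u v k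
      rw [e, he, commutatorElement_def, conj_rad D h1 h2, F.zp_comm (rad_le_Cen h2),
        mul_inv_cancel_right] at this
      have := congrArg F.co this
      rw [F.co_zp, (F.eE_spec (show (5 : ℕ) < 4096 by norm_num)).2.1] at this
      exact absurd this (by norm_num)
    · exact (fill D (fun x h => h.1) hmul hrad
        (fun c hc => hconj c (centAei_le_norm D hc))
        (hconj k (hA hk) v (hrad v hv hvc)) h2 hl).2
  · exact (fill D (fun x h => h.1) hmul hrad
      (fun c hc => hconj c (centAei_le_norm D hc)) (hconj k (hA hk) u (hrad u hu huc)) h1 hl).2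

theorem normLei_le : normalizer (Lei D : Set G) ≤ normalizer (Aei D : Set G) := by
  have key : ∀ g ∈ normalizer (Lei D : Set G), ∀ a ∈ Aei D, g * a * g⁻¹ ∈ Aei D := by
    intro g hg a ha
    refine (mem_Aei_iff_central D ((mem_normalizer_iff.1 hg a).1 (Aei_le_Lei D ha))).2 fun y hy => ?_
    have hy' := (mem_normalizer_iff.1 (inv_mem hg) y).1 hy
    rw [inv_inv] at hy'
    have := (mem_Aei_iff_central D (Aei_le_Lei D ha)).1 ha _ hy'
    calc g * a * g⁻¹ * y = g * (a * (g⁻¹ * y * g)) * g⁻¹ := by group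
      _ = g * (g⁻¹ * y * g * a) * g⁻¹ := by rw [this]
      _ = y * (g * a * g⁻¹) := by group
  intro g hg
  refine mem_normalizer_iff.2 fun a => ⟨key g hg a, fun h => ?_⟩
  have := key g⁻¹ (inv_mem hg) _ h
  simpa [mul_assoc] using this

theorem normLei_eq : normalizer (Lei D : Set G) = normalizer (Aei D : Set G) :=
  le_antisymm (normLei_le D hf) (normAei_le_normLei D hf)

theorem center_Lei : Subgroup.center ↥(Lei D) = (Aei D).subgroupOf (Lei D) := by
  ext x
  rw [mem_subgroupOf, mem_Aei_iff_central D x.2, Subgroup.mem_center_iff]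
  exact ⟨fun h y hy => (congrArg Subtype.val (h ⟨y, hy⟩)).symm,
    fun h y => Subtype.ext (h y y.2).symm⟩

theorem card_center_Lei : Nat.card (Subgroup.center ↥(Lei D)) = 8 := by
  rw [center_Lei D hf, Nat.card_congr (subgroupOfEquivOfLe (Aei_le_Lei D)).toEquiv, card_Aei]

theorem isSpecial_Lei : IsSpecial 2 ↥(Lei D) := by
  have : Fact (Nat.Prime 2) := ⟨Nat.prime_two⟩
  have hp : IsPGroup 2 ↥(Lei D) := IsPGroup.of_card (card_Lei D)
  have h1 : frattini ↥(Lei D) ≤ Subgroup.center ↥(Lei D) :=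
    Transfer.frattini_le_of_elementary_quotient (p := 2) _
      (fun x y => by
        rw [center_Lei D hf, mem_subgroupOf]
        simpa [commutatorElement_def] using (centralMod_all D hf x.2).2 y y.2)
      (fun x => by
        rw [center_Lei D hf, mem_subgroupOf, pow_two]
        exact sq_mem D hf x.2)
  have h2 : Subgroup.center ↥(Lei D) ≤ commutator ↥(Lei D) := by
    intro a ha
    rw [center_Lei D hf, mem_subgroupOf] at ha
    by_cases h : (a : G) = 1
    · rw [show a = 1 from Subtype.ext h]; exact one_mem _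
    obtain ⟨u, v, hu, hv, e⟩ := exists_comm_eq D hf ha h
    rw [show a = ⁅(⟨u, hu.1⟩ : ↥(Lei D)), ⟨v, hv.1⟩⁆ from Subtype.ext e.symm]
    exact commutator_mem_commutator (mem_top _) (mem_top _)
  have h3 : commutator ↥(Lei D) ≤ frattini ↥(Lei D) := by
    rw [commutator_def, commutator_le]
    intro x _ y _
    have := StructC.comm_mem_frattini hp x⁻¹ y⁻¹
    simpa [commutatorElement_def] using this
  exact ⟨hp, le_antisymm h1 (h2.trans h3), le_antisymm (h3.trans h1) h2⟩

end Frame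

end CfsgLib.J4Type
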