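import Cfsg.Agent.Lib.J4Type.Eight.Perms
import Cfsg.Agent.Lib.Recog.QSThree.ClosedLeg

/-!
The normaliser of the eight modulo the preimage of the sixteen: a symmetric group of degree five
times the automorphisms of the eight.
-/

set_option autoImplicit false
set_option linter.unusedSectionVars false
set_option maxRecDepth 100000

namespace CfsgLib.J4Type

open Cfsg Subgroup Eight

namespace Eight

/-- Invertible matrices over the field of two elements have determinant one. -/
noncomputable def glSL : GL (Fin 3) (ZMod 2) ≃* Matrix.SpecialLinearGroup (Fin 3) (ZMod 2) where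
  toFun g := ⟨g, by
    have hne : (g : Matrix (Fin 3) (Fin 3) (ZMod 2)).det ≠ 0 :=
      ((Matrix.isUnit_iff_isUnit_det _).1 g.isUnit).ne_zero
    revert hne
    generalize (g : Matrix (Fin 3) (Fin 3) (ZMod 2)).det = d
    revert d
    decide⟩
  invFun v := Matrix.SpecialLinearGroup.toGL v
  left_inv _ := Units.ext rfl
  right_inv _ := Subtype.ext rfl
  map_mul' _ _ := rfl

end Eight

variable {G : Type*} [Group G] [Finite G] {z : G} {P : Subgroup G}

namespace Frame

variable {F : Frame z P} (D : VData F)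
include D

theorem Aei_comm {a b : G} (ha : a ∈ Aei D) (hb : b ∈ Aei D) : a * b = b * a :=
  V_comm D (Aei_le D ha) (Aei_le D hb)

theorem Aei_sq {a : G} (ha : a ∈ Aei D) : a * a = 1 := V_sq D (Aei_le D ha)

theorem centAei_le_norm : centralizer (Aei D : Set G) ≤ normalizer (Aei D : Set G) :=
  centralizer_le_normalizer _

theorem exists_autEquiv :
    Nonempty (MulAut ↥(Aei D) ≃* Matrix.SpecialLinearGroup (Fin 3) (ZMod 2)) := by
  obtain ⟨e⟩ := Recog.QSThree.aut_eight (P := ↥(Aei D))
    (fun a b => Subtype.ext (Aei_comm D a.2 b.2))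
    (fun a => Subtype.ext (by
      show (a : G) ^ 2 = 1
      rw [pow_two, Aei_sq D a.2])) (card_Aei D)
  exact ⟨e.trans glSL⟩

theorem card_autAei : Nat.card (MulAut ↥(Aei D)) = 168 := by
  obtain ⟨e⟩ := exists_autEquiv D
  rw [Nat.card_congr (e.trans glSL.symm).toEquiv, Recog.QSThree.gl_psl.1]

/-- The action on the eight. -/
noncomputable def rhoA : ↥(normalizer (Aei D : Set G)) →* MulAut ↥(Aei D) :=
  (Aei D).normalizerMonoidHom

theorem rhoA_eq_one {g : ↥(normalizer (Aei D : Set G))} :
    rhoA D g = 1 ↔ (g : G) ∈ centralizer (Aei D : Set G) := by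
  show g ∈ (Aei D).normalizerMonoidHom.ker ↔ _
  rw [normalizerMonoidHom_ker, mem_subgroupOf]

theorem rhoA_apply (g : ↥(normalizer (Aei D : Set G))) (a : ↥(Aei D)) :
    ((rhoA D g a : ↥(Aei D)) : G) = g * a * (g : G)⁻¹ := rfl

/-- The stabiliser of `V` in the normaliser of the eight. -/
noncomputable def normVA : Subgroup ↥(normalizer (Aei D : Set G)) :=
  (normalizer (D.V : Set G)).subgroupOf (normalizer (Aei D : Set G))

/-- The action on the five conjugates of `V`. -/
noncomputable def psiA : ↥(normalizer (Aei D : Set G)) →*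
    Equiv.Perm (↥(normalizer (Aei D : Set G)) ⧸ normVA D) :=
  MulAction.toPermHom _ _

theorem mem_fixPlane_muA (g : ↥(centralizer (Aei D : Set G))) :
    muA D g ∈ fixPlane ↔ (g : G) ∈ normalizer (D.V : Set G) := by
  rw [stabF_iff_norm D (centAei_le D g.2)]
  exact Iff.rfl

variable (hf : Fused D)
include hf

theorem exists_levi_split (m : ↥(normalizer (Aei D : Set G))) :
    ∃ k : ↥(normalizer (Aei D : Set G)), (k : G) ∈ normalizer (D.V : Set G) ∧
      rhoA D k = rhoA D m := by
  obtain ⟨K2, hV, hA, hc, hdis, -⟩ := exists_levi_eight D hf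
  let f : ↥K2 →* MulAut ↥(Aei D) := (rhoA D).comp (Subgroup.inclusion hA)
  have hi : Function.Injective f := (injective_iff_map_eq_one _).2 fun x hx => by
    have : (x : G) ∈ K2 ⊓ centralizer (Aei D : Set G) := ⟨x.2, (rhoA_eq_one D).1 hx⟩
    rw [hdis, mem_bot] at this
    exact Subtype.ext this
  have hb := hi.bijective_of_nat_card_le (by rw [card_autAei D, hc])
  obtain ⟨x, hx⟩ := hb.2 (rhoA D m)
  exact ⟨Subgroup.inclusion hA x, hV x.2, hx⟩

theorem rhoA_surjective : Function.Surjective (rhoA D) := by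
  obtain ⟨K2, hV, hA, hc, hdis, -⟩ := exists_levi_eight D hf
  let f : ↥K2 →* MulAut ↥(Aei D) := (rhoA D).comp (Subgroup.inclusion hA)
  have hi : Function.Injective f := (injective_iff_map_eq_one _).2 fun x hx => by
    have : (x : G) ∈ K2 ⊓ centralizer (Aei D : Set G) := ⟨x.2, (rhoA_eq_one D).1 hx⟩
    rw [hdis, mem_bot] at this
    exact Subtype.ext this
  exact fun y => ⟨_, ((hi.bijective_of_nat_card_le (by rw [card_autAei D, hc])).2 y).choose_spec⟩

theorem index_normVA : (normVA D).index = 5 := by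
  rw [← index_norm_centAei D, index_eq_card, index_eq_card]
  set H := (normalizer (D.V : Set G)).subgroupOf (centralizer (Aei D : Set G))
  let ι := Subgroup.inclusion (centAei_le_norm D)
  have hrel : ∀ a b : ↥(centralizer (Aei D : Set G)),
      a⁻¹ * b ∈ H ↔ (ι a)⁻¹ * ι b ∈ normVA D := fun a b => Iff.rfl
  refine (Nat.card_eq_of_bijective (Quotient.map' ι fun a b h => by
    rw [QuotientGroup.leftRel_apply] at h ⊢; exact (hrel a b).1 h) ⟨?_, ?_⟩).symm
  · intro x y
    induction x using Quotient.inductionOn' with | _ a =>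
    induction y using Quotient.inductionOn' with | _ b =>
    intro e
    exact QuotientGroup.eq.2 ((hrel a b).2 (QuotientGroup.eq.1 e))
  · intro q
    obtain ⟨m, rfl⟩ := QuotientGroup.mk_surjective q
    obtain ⟨k, hk, e⟩ := exists_levi_split D hf m
    have hc : ((m * k⁻¹ : ↥(normalizer (Aei D : Set G))) : G) ∈ centralizer (Aei D : Set G) :=
      (rhoA_eq_one D).1 (by rw [map_mul, map_inv, e, mul_inv_cancel])
    refine ⟨QuotientGroup.mk ⟨_, hc⟩, QuotientGroup.eq.2 ?_⟩
    show (ι ⟨_, hc⟩)⁻¹ * m ∈ normVA D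
    rw [show ι ⟨_, hc⟩ = m * k⁻¹ from Subtype.ext rfl, mul_inv_rev, inv_inv,
      inv_mul_cancel_right]
    exact hk

theorem card_permVA :
    Nat.card (Equiv.Perm (↥(normalizer (Aei D : Set G)) ⧸ normVA D)) = 120 := by
  rw [Nat.card_perm, ← index_eq_card, index_normVA D hf]
  rfl

theorem psiA_eq_one {c : ↥(normalizer (Aei D : Set G))}
    (hc : (c : G) ∈ centralizer (Aei D : Set G)) : psiA D c = 1 ↔ (c : G) ∈ Lei D := by
  have hcore : psiA D c = 1 ↔ c ∈ (normVA D).normalCore := by
    rw [normalCore_eq_ker, MonoidHom.mem_ker]; rfl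
  rw [hcore, mem_Lei]
  have hmu : (muA D ⟨c, hc⟩ : Cert.LGrp).1 = F.mat (c : G) := rfl
  constructor
  · intro h
    refine ⟨hc, hmu ▸ mem_normalCore.1 fun g => ?_⟩
    obtain ⟨d, rfl⟩ := muA_surjective D g
    rw [← map_mul, ← map_inv, ← map_mul, mem_fixPlane_muA]
    exact h (Subgroup.inclusion (centAei_le_norm D) d)
  · rintro ⟨-, h⟩ m
    obtain ⟨k, hk, e⟩ := exists_levi_split D hf m
    have hd : ((k⁻¹ * m : ↥(normalizer (Aei D : Set G))) : G) ∈ centralizer (Aei D : Set G) :=
      (rhoA_eq_one D).1 (by rw [map_mul, map_inv, e, inv_mul_cancel])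
    have h1 := (mem_normalCore.2 h : muA D ⟨c, hc⟩ ∈ fixPlane.normalCore) (muA D ⟨_, hd⟩)
    rw [← map_mul, ← map_inv, ← map_mul, mem_fixPlane_muA] at h1
    have h2 := mul_mem (mul_mem hk h1) (inv_mem hk)
    show (m : G) * c * (m : G)⁻¹ ∈ normalizer (D.V : Set G)
    convert h2 using 1
    simp only [Subgroup.coe_mul, Subgroup.coe_inv]
    group

theorem psiA_surjective_cent (π : Equiv.Perm (↥(normalizer (Aei D : Set G)) ⧸ normVA D)) :
    ∃ c : ↥(normalizer (Aei D : Set G)), (c : G) ∈ centralizer (Aei D : Set G) ∧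
      psiA D c = π := by
  let f := (psiA D).comp (Subgroup.inclusion (centAei_le_norm D))
  have hker : f.ker = (Lei D).subgroupOf (centralizer (Aei D : Set G)) := by
    ext c
    rw [MonoidHom.mem_ker, mem_subgroupOf]
    exact psiA_eq_one D hf c.2
  have h := f.ker.card_mul_index
  rw [index_ker, hker, Nat.card_congr (subgroupOfEquivOfLe (Lei_le D)).toEquiv, card_Lei,
    card_centAei] at h
  have : f.range = ⊤ := eq_top_of_card_eq _ (by rw [card_permVA D hf]; omega)
  obtain ⟨c, hc⟩ := MonoidHom.range_eq_top.1 this π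
  exact ⟨Subgroup.inclusion (centAei_le_norm D) c, c.2, hc⟩

/-- The two actions together. -/
noncomputable def pairA : ↥(normalizer (Aei D : Set G)) →*
    Equiv.Perm (↥(normalizer (Aei D : Set G)) ⧸ normVA D) × MulAut ↥(Aei D) :=
  (psiA D).prod (rhoA D)

theorem pairA_surjective : Function.Surjective (pairA D) := by
  rintro ⟨π, α⟩
  obtain ⟨m, hm⟩ := rhoA_surjective D hf α
  obtain ⟨c, hc, hπ⟩ := psiA_surjective_cent D hf (π * (psiA D m)⁻¹)
  refine ⟨c * m, Prod.ext ?_ ?_⟩
  · show psiA D (c * m) = π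
    rw [map_mul, hπ, inv_mul_cancel_right]
  · show rhoA D (c * m) = α
    rw [map_mul, (rhoA_eq_one D).2 hc, one_mul, hm]

theorem pairA_ker : (pairA D).ker = (Lei D).subgroupOf (normalizer (Aei D : Set G)) := by
  ext g
  rw [MonoidHom.mem_ker, mem_subgroupOf]
  constructor
  · intro h
    have hc := (rhoA_eq_one D).1 (congrArg Prod.snd h)
    exact (psiA_eq_one D hf hc).1 (congrArg Prod.fst h)
  · intro h
    exact Prod.ext ((psiA_eq_one D hf (Lei_le D h)).2 h) ((rhoA_eq_one D).2 (Lei_le D h))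

theorem normAei_le_normLei : normalizer (Aei D : Set G) ≤ normalizer (Lei D : Set G) := by
  have : ((Lei D).subgroupOf (normalizer (Aei D : Set G))).Normal :=
    pairA_ker D hf ▸ (pairA D).normal_ker
  exact (normal_subgroupOf_iff_le_normalizer
    ((Lei_le D).trans (centAei_le_norm D))).1 this

theorem card_normAei : Nat.card ↥(normalizer (Aei D : Set G)) = 2 ^ 15 * (120 * 168) := by
  have h := (pairA D).ker.card_mul_index
  rw [index_ker, MonoidHom.range_eq_top.2 (pairA_surjective D hf), Subgroup.card_top, Nat.card_prod,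
    card_permVA D hf, card_autAei D, pairA_ker D hf,
    Nat.card_congr (subgroupOfEquivOfLe ((Lei_le D).trans (centAei_le_norm D))).toEquiv,
    card_Lei D] at h
  exact h.symm

end Frame

end CfsgLib.J4Type
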